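/-
Three commuting transvections of GL(4,2) inside the stabilizer of a pair of letters, with their centralizing
elements of order three.
-/
import Cfsg.Agent.Lib.SmallSimple.GL4A8

set_option autoImplicit false
set_option maxRecDepth 8000

namespace CfsgLib.SectFour

open Equiv Matrix CfsgLib.GL4A8

abbrev GV := GL (Fin 4) (ZMod 2)

def Ma : GV := ⟨!![1, 0, 0, 1; 0, 1, 0, 0; 0, 0, 1, 0; 0, 0, 0, 1], !![1, 0, 0, 1; 0, 1, 0, 0; 0, 0, 1, 0; 0, 0, 0, 1], by decide +kernel, by decide +kernel⟩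
def Mb : GV := ⟨!![1, 1, 1, 1; 0, 0, 1, 1; 0, 1, 0, 1; 0, 0, 0, 1], !![1, 1, 1, 1; 0, 0, 1, 1; 0, 1, 0, 1; 0, 0, 0, 1], by decide +kernel, by decide +kernel⟩
def Mc : GV := ⟨!![1, 0, 0, 0; 0, 0, 1, 0; 0, 1, 0, 0; 0, 0, 0, 1], !![1, 0, 0, 0; 0, 0, 1, 0; 0, 1, 0, 0; 0, 0, 0, 1], by decide +kernel, by decide +kernel⟩
def Ga : GV := ⟨!![1, 1, 0, 0; 0, 1, 1, 0; 0, 1, 0, 0; 0, 0, 0, 1], !![1, 0, 1, 0; 0, 0, 1, 0; 0, 1, 1, 0; 0, 0, 0, 1], by decide +kernel, by decide +kernel⟩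
def Gb : GV := ⟨!![1, 0, 0, 0; 1, 0, 0, 1; 0, 1, 0, 0; 1, 0, 1, 0], !![1, 0, 0, 0; 0, 0, 1, 0; 1, 0, 0, 1; 1, 1, 0, 0], by decide +kernel, by decide +kernel⟩
def Gc : GV := ⟨!![0, 1, 1, 1; 0, 0, 1, 1; 0, 1, 0, 1; 1, 0, 0, 1], !![1, 1, 1, 1; 1, 1, 0, 0; 1, 0, 1, 0; 1, 1, 1, 0], by decide +kernel, by decide +kernel⟩

/-- The matrices with their permutations. -/
def table : List (GV × Perm (Fin 8)) := [
  (Ma, ⟨![1, 0, 3, 2, 5, 4, 7, 6], ![1, 0, 3, 2, 5, 4, 7, 6], by decide, by decide⟩),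
  (Mb, ⟨![1, 0, 4, 5, 2, 3, 7, 6], ![1, 0, 4, 5, 2, 3, 7, 6], by decide, by decide⟩),
  (Mc, ⟨![1, 0, 5, 4, 3, 2, 7, 6], ![1, 0, 5, 4, 3, 2, 7, 6], by decide, by decide⟩),
  (Ga, ⟨![2, 3, 4, 5, 0, 1, 6, 7], ![4, 5, 0, 1, 2, 3, 6, 7], by decide, by decide⟩),
  (Gb, ⟨![2, 4, 3, 0, 5, 1, 6, 7], ![3, 5, 0, 2, 1, 4, 6, 7], by decide, by decide⟩),
  (Gc, ⟨![2, 5, 3, 0, 1, 4, 6, 7], ![3, 4, 0, 2, 5, 1, 6, 7], by decide, by decide⟩)]

theorem table_moves : ∀ q ∈ table, Moves ((q.1 : GV) : M4) q.2 := by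
  have h : (table.all fun q => decide (Moves ((q.1 : GV) : M4) q.2)) = true := by decide +kernel
  simpa using h

theorem toPerm_table {q : GV × Perm (Fin 8)} (hq : q ∈ table) : toPerm q.1 = q.2 :=
  moves_unique (exists_moves q.1).choose_spec (table_moves q hq)

theorem table_pair : ∀ q ∈ table, ∀ y : Fin 8, ((q.2 y = 6 ∨ q.2 y = 7) ↔ (y = 6 ∨ y = 7)) := by
  have h : (table.all fun q => (List.finRange 8).all fun y => decide ((q.2 y = 6 ∨ q.2 y = 7) ↔ (y = 6 ∨ y = 7))) = true := by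
    decide +kernel
  intro q hq y
  exact of_decide_eq_true (List.all_eq_true.mp (List.all_eq_true.mp h q hq) y (List.mem_finRange y))

theorem table_sign : ∀ q ∈ table, Perm.sign q.2 = 1 := by
  have h : (table.all fun q => decide (Perm.sign q.2 = 1)) = true := by decide +kernel
  simpa using h

/-- The eight products. -/
def Rl : List M4 := [1, !![1, 0, 0, 1; 0, 1, 0, 0; 0, 0, 1, 0; 0, 0, 0, 1], !![1, 1, 1, 1; 0, 0, 1, 1; 0, 1, 0, 1; 0, 0, 0, 1],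
  !![1, 0, 0, 0; 0, 0, 1, 0; 0, 1, 0, 0; 0, 0, 0, 1], !![1, 0, 0, 1; 0, 0, 1, 0; 0, 1, 0, 0; 0, 0, 0, 1],
  !![1, 1, 1, 0; 0, 0, 1, 1; 0, 1, 0, 1; 0, 0, 0, 1], !![1, 1, 1, 0; 0, 1, 0, 1; 0, 0, 1, 1; 0, 0, 0, 1],
  !![1, 1, 1, 1; 0, 1, 0, 1; 0, 0, 1, 1; 0, 0, 0, 1]]

theorem Rl_mem : (Ma : M4) ∈ Rl ∧ (Mb : M4) ∈ Rl ∧ (Mc : M4) ∈ Rl := by decide +kernel

theorem Rl_mul : ∀ x ∈ Rl, ∀ y ∈ Rl, x * y ∈ Rl := by
  have h : (Rl.all fun x => Rl.all fun y => decide (x * y ∈ Rl)) = true := by decide +kernel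
  simpa using h
theorem Rl_sq : ∀ x ∈ Rl, x * x = 1 := by
  have h : (Rl.all fun x => decide (x * x = 1)) = true := by decide +kernel
  simpa using h
theorem Rl_nodup : Rl.Nodup := by decide +kernel

/-- The fixed subspace. -/
def InW (v : Fin 4 → ZMod 2) : Prop := v 3 = 0 ∧ v 1 = v 2

instance (v : Fin 4 → ZMod 2) : Decidable (InW v) := by unfold InW; infer_instance

/-- All vectors. -/
def vecs : List (Fin 4 → ZMod 2) :=
  (List.range 16).map fun n => fun i : Fin 4 => if n.testBit i then 1 else 0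

theorem mem_vecs : ∀ v : Fin 4 → ZMod 2, v ∈ vecs := by decide +kernel

theorem inW_invariant : ∀ x ∈ Rl, ∀ v : Fin 4 → ZMod 2, InW v → InW (x.mulVec v) := by
  have h : (Rl.all fun x => vecs.all fun v => !decide (InW v) || decide (InW (x.mulVec v))) = true := by decide +kernel
  simp only [List.all_eq_true, Bool.or_eq_true, Bool.not_eq_true', decide_eq_false_iff_not, decide_eq_true_eq] at h
  exact fun x hx v hv => (h x hx v (mem_vecs v)).resolve_left (fun hn => hn hv)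

theorem fixed_inW : ∀ x ∈ Rl, x = 1 ∨ x = (Ma : M4) ∨ x = (Mb : M4) ∨ x = (Mc : M4) ∨
    ∀ v : Fin 4 → ZMod 2, x.mulVec v = v → InW v := by
  have h : (Rl.all fun x => decide (x = 1) || decide (x = (Ma : M4)) || decide (x = (Mb : M4)) || decide (x = (Mc : M4)) ||
      vecs.all fun v => !decide (x.mulVec v = v) || decide (InW v)) = true := by decide +kernel
  simp only [List.all_eq_true, Bool.or_eq_true, Bool.not_eq_true', decide_eq_false_iff_not, decide_eq_true_eq] at h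
  intro x hx
  rcases h x hx with (((h1 | h1) | h1) | h1) | h1
  · exact Or.inl h1
  · exact Or.inr (Or.inl h1)
  · exact Or.inr (Or.inr (Or.inl h1))
  · exact Or.inr (Or.inr (Or.inr (Or.inl h1)))
  · exact Or.inr (Or.inr (Or.inr (Or.inr fun v hv => (h1 v (mem_vecs v)).resolve_left (fun hn => hn hv))))

theorem special : ∀ q ∈ [((Ma : M4), (Ga : M4)), ((Mb : M4), (Gb : M4)), ((Mc : M4), (Gc : M4))],
    q.1 * q.2 = q.2 * q.1 ∧ ∀ v : Fin 4 → ZMod 2, q.1.mulVec v = v → ∀ u : Fin 4 → ZMod 2,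
      q.2.mulVec v = v + u + q.1.mulVec u → InW v := by
  have h : (([((Ma : M4), (Ga : M4)), ((Mb : M4), (Gb : M4)), ((Mc : M4), (Gc : M4))] : List (M4 × M4)).all fun q =>
      decide (q.1 * q.2 = q.2 * q.1) && vecs.all fun v => decide (InW v) || !decide (q.1.mulVec v = v) ||
        vecs.all fun u => !decide (q.2.mulVec v = v + u + q.1.mulVec u)) = true := by decide +kernel
  simp only [List.all_eq_true, Bool.and_eq_true, Bool.or_eq_true, Bool.not_eq_true', decide_eq_false_iff_not,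
    decide_eq_true_eq] at h
  intro q hq
  refine ⟨(h q hq).1, fun v hv u hu => ?_⟩
  rcases (h q hq).2 v (mem_vecs v) with (h1 | h1) | h1
  · exact h1
  · exact absurd hv h1
  · exact absurd hu (h1 u (mem_vecs u))

theorem card_inW : Fintype.card {v : Fin 4 → ZMod 2 // InW v} = 4 := by decide +kernel

end CfsgLib.SectFour
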