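/-
Quadratic maps on a space of sixteen vectors equivariant under a dihedral group of order ten, in numbers.
-/
import Cfsg.Agent.Lib.SectFour.Data

set_option autoImplicit false
set_option maxRecDepth 8000

namespace CfsgLib.SectFour

open Matrix CfsgLib.GL4A8

/-- The element of order five. -/
def Mz : GV := ⟨!![0, 0, 0, 1; 1, 0, 0, 1; 0, 1, 0, 1; 0, 0, 1, 1], !![1, 1, 0, 0; 1, 0, 1, 0; 1, 0, 0, 1; 1, 0, 0, 0], by decide +kernel, by decide +kernel⟩
/-- The inverting involution. -/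
def Mt : GV := ⟨!![1, 1, 0, 0; 0, 1, 0, 0; 0, 1, 0, 1; 0, 1, 1, 0], !![1, 1, 0, 0; 0, 1, 0, 0; 0, 1, 0, 1; 0, 1, 1, 0], by decide +kernel, by decide +kernel⟩
/-- Conjugates `Mz` to its square. -/
def Mf : GV := ⟨!![1, 0, 1, 0; 0, 0, 1, 1; 0, 1, 1, 0; 0, 0, 1, 0], !![1, 0, 0, 1; 0, 0, 1, 1; 0, 0, 0, 1; 0, 1, 0, 1], by decide +kernel, by decide +kernel⟩

theorem Mf_rel : (Mf : M4) * (Mz : M4) = (Mz : M4) * (Mz : M4) * (Mf : M4) := by decide +kernel
theorem Mz_five : (Mz : M4) * ((Mz : M4) * ((Mz : M4) * ((Mz : M4) * (Mz : M4)))) = 1 := by decide +kernel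
theorem Mz_ne : (Mz : M4) ≠ 1 := by decide +kernel

def zT : List ℕ := [0, 2, 4, 6, 8, 10, 12, 14, 15, 13, 11, 9, 7, 5, 3, 1]
def tT : List ℕ := [0, 1, 15, 14, 8, 9, 7, 6, 4, 5, 11, 10, 12, 13, 3, 2]
def posT : List (ℕ × ℕ) := [(0, 3), (0, 0), (1, 0), (3, 1), (2, 0), (1, 2), (4, 1), (1, 1), (3, 0), (4, 2), (2, 2), (3, 2), (0, 1), (0, 2), (2, 1), (4, 0)]
def repT : List ℕ := [1, 12, 13]

def zn (n : ℕ) : ℕ := zT.getD n 0
def tn (n : ℕ) : ℕ := tT.getD n 0
def orbitOf (n : ℕ) : ℕ := (posT.getD n (0, 3)).2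

/-- Vector number `n`. -/
def vec (n : ℕ) : Fin 4 → ZMod 2 := fun i => if n.testBit i then 1 else 0

/-- The number of a vector. -/
def num (v : Fin 4 → ZMod 2) : ℕ := (v 0).val + 2 * (v 1).val + 4 * (v 2).val + 8 * (v 3).val

theorem vec_num : ∀ v : Fin 4 → ZMod 2, vec (num v) = v := by
  have h : (vecs.all fun v => decide (vec (num v) = v)) = true := by decide +kernel
  exact fun v => of_decide_eq_true (List.all_eq_true.mp h v (mem_vecs v))

theorem num_lt (v : Fin 4 → ZMod 2) : num v < 16 := by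
  have h : ∀ x : ZMod 2, x.val ≤ 1 := fun x => Nat.le_of_lt_succ (ZMod.val_lt x)
  have := h (v 0); have := h (v 1); have := h (v 2); have := h (v 3)
  unfold num; omega

theorem num_vec : ∀ n < 16, num (vec n) = n := by decide +kernel

theorem vec_zero : vec 0 = 0 := by decide +kernel

theorem mulVec_z : ∀ n < 16, (Mz : M4).mulVec (vec n) = vec (zn n) := by
  have h : ((List.range 16).all fun n => decide ((Mz : M4).mulVec (vec n) = vec (zn n))) = true := by decide +kernel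
  exact fun n hn => of_decide_eq_true (List.all_eq_true.mp h n (List.mem_range.mpr hn))

theorem mulVec_t : ∀ n < 16, (Mt : M4).mulVec (vec n) = vec (tn n) := by
  have h : ((List.range 16).all fun n => decide ((Mt : M4).mulVec (vec n) = vec (tn n))) = true := by decide +kernel
  exact fun n hn => of_decide_eq_true (List.all_eq_true.mp h n (List.mem_range.mpr hn))

theorem vec_xor : ∀ a < 16, ∀ b < 16, vec (a ^^^ b) = vec a + vec b := by
  have h : ((List.range 16).all fun a => (List.range 16).all fun b => decide (vec (a ^^^ b) = vec a + vec b)) = true := by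
    decide +kernel
  exact fun a ha b hb => of_decide_eq_true (List.all_eq_true.mp (List.all_eq_true.mp h a (List.mem_range.mpr ha)) b
    (List.mem_range.mpr hb))

theorem xor_lt {a b : ℕ} (ha : a < 16) (hb : b < 16) : a ^^^ b < 16 := Nat.xor_lt_two_pow (n := 4) ha hb

theorem zn_lt : ∀ n < 16, zn n < 16 := by decide +kernel
theorem tn_lt : ∀ n < 16, tn n < 16 := by decide +kernel

/-- `i`-fold application of `zn`. -/
def znPow : ℕ → ℕ → ℕ
  | 0, v => v
  | i + 1, v => zn (znPow i v)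

theorem pos_checked : ∀ n < 16, n = 0 ∨ ∃ i < 5, ∃ j < 3, posT.getD n (0, 3) = (i, j) ∧ znPow i (repT.getD j 0) = n := by
  decide +kernel

theorem rep_fixed : ∀ j < 3, repT.getD j 0 < 16 ∧ tn (repT.getD j 0) = repT.getD j 0 := by decide +kernel

theorem znPow_lt (i : ℕ) {v : ℕ} (hv : v < 16) : znPow i v < 16 := by
  induction i with
  | zero => exact hv
  | succ i ih => exact zn_lt _ ih

/-- The map with values `a`, `b`, `c` on the representatives. -/
def qOf (a b c : ℕ) (n : ℕ) : ℕ :=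
  if n = 0 then 0 else znPow (posT.getD n (0, 3)).1 ([a, b, c].getD (posT.getD n (0, 3)).2 0)

theorem eq_qOf {f : ℕ → ℕ} (h0 : f 0 = 0) (hz : ∀ n < 16, f (zn n) = zn (f n)) (n : ℕ) (hn : n < 16) :
    f n = qOf (f 1) (f 12) (f 13) n := by
  have hp : ∀ i v, v < 16 → f (znPow i v) = znPow i (f v) := by
    intro i v hv
    induction i with
    | zero => rfl
    | succ i ih => show f (zn _) = zn _; rw [hz _ (znPow_lt i hv), ih]
  rcases pos_checked n hn with rfl | ⟨i, -, j, hj, e, hpow⟩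
  · rw [h0]; rfl
  · rw [qOf]
    split
    · rename_i h; rw [h, h0]
    · rw [e]
      conv_lhs => rw [← hpow]
      rw [hp i _ (rep_fixed j hj).1]
      interval_cases j <;> rfl

/-- The polar map. -/
def polar (f : ℕ → ℕ) (u w : ℕ) : ℕ := f (u ^^^ w) ^^^ f u ^^^ f w

def expansion (f : ℕ → ℕ) (n : ℕ) : ℕ :=
  let t (k : ℕ) (x : ℕ) : ℕ := if n.testBit k then x else 0
  let p (k l : ℕ) : ℕ := if n.testBit k && n.testBit l then polar f (2 ^ k) (2 ^ l) else 0
  t 0 (f 1) ^^^ t 1 (f 2) ^^^ t 2 (f 4) ^^^ t 3 (f 8) ^^^ p 0 1 ^^^ p 0 2 ^^^ p 0 3 ^^^ p 1 2 ^^^ p 1 3 ^^^ p 2 3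

def isQuad (f : ℕ → ℕ) : Bool := (List.range 16).all fun n => f n == expansion f n

def isLin (f : ℕ → ℕ) : Bool :=
  (List.range 16).all fun u => (List.range 16).all fun w => f (u ^^^ w) == (f u ^^^ f w)

def hasPlane (f : ℕ → ℕ) : Bool :=
  (List.range 16).any fun u => (List.range 16).any fun w => u != 0 && w != 0 && u != w &&
    (let x := f u; let y := f w; let z := f (u ^^^ w)
     (x == 0 || y == 0 || x == y) && (x == 0 || z == 0 || x == z) && (y == 0 || z == 0 || y == z))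

/-- Values fixed by the involution. -/
def fixT : List ℕ := [0, 1, 12, 13]

theorem fixT_checked : ∀ n < 16, tn n = n → n ∈ fixT := by decide +kernel

theorem equivariant_cases : (fixT.all fun a => fixT.all fun b => fixT.all fun c =>
    !(isQuad (qOf a b c)) || hasPlane (qOf a b c) ||
      (isLin (qOf a b c) && ((List.range 16).all fun n => n == 0 || qOf a b c n != 0))) = true := by
  decide +kernel

/-- Values constant on the three orbits, the value in a space of eight. -/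
def qConst (a b c : ℕ) (n : ℕ) : ℕ := if n = 0 then 0 else [a, b, c].getD (orbitOf n) 0

theorem constant_cases : ((List.range 8).all fun a => (List.range 8).all fun b => (List.range 8).all fun c =>
    !(isQuad (qConst a b c)) || a ^^^ b == c) = true := by
  decide +kernel

def linMap (i0 i1 i2 i3 : ℕ) (n : ℕ) : ℕ :=
  (if n.testBit 0 then i0 else 0) ^^^ (if n.testBit 1 then i1 else 0) ^^^ (if n.testBit 2 then i2 else 0) ^^^
    (if n.testBit 3 then i3 else 0)

def sameOrbit (k : ℕ) : List ℕ := (List.range 16).filter fun v => v != 0 && orbitOf v == orbitOf k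

/-- The linear maps preserving the three orbits. -/
def stabList : List (ℕ × ℕ × ℕ × ℕ) :=
  ((sameOrbit 1).flatMap fun i0 => (sameOrbit 2).flatMap fun i1 => (sameOrbit 4).flatMap fun i2 =>
    (sameOrbit 8).map fun i3 => (i0, i1, i2, i3)).filter fun l =>
    (List.range 16).all fun n => n == 0 || (linMap l.1 l.2.1 l.2.2.1 l.2.2.2 n != 0 &&
      orbitOf (linMap l.1 l.2.1 l.2.2.1 l.2.2.2 n) == orbitOf n)

theorem stabList_length : stabList.length ≤ 20 := by decide +kernel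

/-- The three forms. -/
def qBit (k n : ℕ) : ℕ := if n = 0 ∨ orbitOf n = k then 0 else 1

/-- An orthogonal splitting of each form. -/
def frameT : List (ℕ × ℕ × ℕ × ℕ) := [(3, 5, 8, 15), (1, 4, 12, 14), (1, 2, 5, 13)]

theorem frame_checked : ∀ k < 3, let F := frameT.getD k (0, 0, 0, 0)
    F.1 < 16 ∧ F.2.1 < 16 ∧ F.2.2.1 < 16 ∧ F.2.2.2 < 16 ∧
    qBit k F.1 = 1 ∧ qBit k F.2.1 = 1 ∧ qBit k (F.1 ^^^ F.2.1) = 1 ∧
    qBit k F.2.2.1 = 0 ∧ qBit k F.2.2.2 = 0 ∧ qBit k (F.2.2.1 ^^^ F.2.2.2) = 1 ∧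
    polar (qBit k) F.1 F.2.2.1 = 0 ∧ polar (qBit k) F.1 F.2.2.2 = 0 ∧
    polar (qBit k) F.2.1 F.2.2.1 = 0 ∧ polar (qBit k) F.2.1 F.2.2.2 = 0 := by
  decide +kernel

theorem frame_span : ∀ k < 3, ∀ n < 16, ∃ e₀ < 2, ∃ e₁ < 2, ∃ e₂ < 2, ∃ e₃ < 2,
    let F := frameT.getD k (0, 0, 0, 0)
    n = (if e₀ = 1 then F.1 else 0) ^^^ (if e₁ = 1 then F.2.1 else 0) ^^^ (if e₂ = 1 then F.2.2.1 else 0) ^^^
      (if e₃ = 1 then F.2.2.2 else 0) := by
  decide +kernel

theorem nondeg : ∀ k < 3, ∀ n < 16, n = 0 ∨ ∃ m < 16, polar (qBit k) n m = 1 := by decide +kernel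

theorem two_ones : ∀ k < 3, ∀ n < 16, qBit k n = 1 ∨ ∃ m < 16, qBit k m = 1 ∧ qBit k (n ^^^ m) = 1 := by
  decide +kernel

theorem torsor_fixed : ∀ n < 16, tn n = n → ∃ m < 16, n = m ^^^ tn m := by decide +kernel

theorem fixed_list : ∀ n < 16, (tn n = n ↔ n ∈ fixT) := by decide +kernel


namespace Numeric

/-- An involution inverting `Mz`, determined by the image of the first vector. -/
def invMap (n : ℕ) (m : ℕ) : ℕ := linMap n (znPow 4 n) (znPow 3 n) (znPow 2 n) m

theorem inv_checked : ∀ n < 16, (∃ m < 16, invMap n (invMap n m) ≠ m) ∨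
    ∃ k < 5, ∀ m < 16, znPow k (invMap n m) = tn (znPow k m) := by
  decide +kernel

theorem bits : ∀ n < 16, n = linMap 1 2 4 8 n := by decide +kernel

theorem basis_shift : zn 1 = 2 ∧ zn 2 = 4 ∧ zn 4 = 8 ∧ (∀ m < 16, znPow 5 m = m) := by decide +kernel

theorem triple : orbitOf 1 = 0 ∧ orbitOf 2 = 0 ∧ orbitOf 4 = 0 ∧ orbitOf 3 = 1 ∧ orbitOf 5 = 2 ∧ orbitOf 6 = 1 ∧ orbitOf 7 = 1 := by
  decide +kernel

theorem orbit_lt : ∀ n < 16, n ≠ 0 → orbitOf n < 3 := by decide +kernel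

end Numeric

end CfsgLib.SectFour
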