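/-
Equivariant quadratic maps on a four-dimensional space with a group of order sixty acting faithfully.
-/
import Cfsg.Agent.Lib.SectFour.QuadData
import Cfsg.Agent.Lib.SmallSimple.EightSubgroups

set_option autoImplicit false
set_option linter.style.haveILetI false
set_option maxRecDepth 8000

namespace CfsgLib.SectFour

open Matrix CfsgLib.GL4A8

theorem card_GV : Nat.card GV = 20160 := by
  haveI : Fact (Nat.Prime 2) := ⟨Nat.prime_two⟩
  rw [Matrix.card_GL_field]; simp [Fin.prod_univ_four]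

/-- An elementary abelian group with the action of its automorphisms. -/
theorem exists_lin {V : Type*} [CommGroup V] [Finite V] (he : ∀ x : V, x ^ 2 = 1) :
    ∃ (n : ℕ) (ι : Additive V ≃+ (Fin n → ZMod 2)) (f : MulAut V →* GL (Fin n) (ZMod 2)), Nat.card V = 2 ^ n ∧
      Function.Injective f ∧ ∀ (σ : MulAut V) (v : V), ι (Additive.ofMul (σ v)) =
        ((f σ : GL (Fin n) (ZMod 2)) : Matrix (Fin n) (Fin n) (ZMod 2)).mulVec (ι (Additive.ofMul v)) := by
  haveI : Fact (Nat.Prime 2) := ⟨Nat.prime_two⟩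
  letI : Module (ZMod 2) (Additive V) := AddCommGroup.zmodModule fun x => he x
  let b := Module.finBasis (ZMod 2) (Additive V)
  refine ⟨_, b.equivFun.toAddEquiv, (Units.mapEquiv (LinearMap.toMatrixAlgEquiv b).toMulEquiv).toMonoidHom.comp
    { toFun := fun σ => (LinearMap.GeneralLinearGroup.generalLinearEquiv (ZMod 2) (Additive V)).symm
        (LinearEquiv.ofBijective (AddMonoidHom.toZModLinearMap 2 (MonoidHom.toAdditive σ.toMonoidHom)) σ.bijective)
      map_one' := Units.ext (LinearMap.ext fun w => rfl)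
      map_mul' := fun σ τ => Units.ext (LinearMap.ext fun w => rfl) }, ?_, ?_, ?_⟩
  · rw [show Nat.card V = Nat.card (Additive V) from rfl, Module.natCard_eq_pow_finrank (K := ZMod 2), Nat.card_zmod]
  · refine (Units.mapEquiv (LinearMap.toMatrixAlgEquiv b).toMulEquiv).injective.comp ?_
    intro σ τ e
    ext x
    exact congrArg (fun u : (Module.End (ZMod 2) (Additive V))ˣ => Additive.toMul (u.1 (Additive.ofMul x))) e
  · exact fun σ v => (LinearMap.toMatrix_mulVec_repr b b
      (AddMonoidHom.toZModLinearMap 2 (MonoidHom.toAdditive σ.toMonoidHom)) (Additive.ofMul v)).symm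

theorem GV_ext {g h : GV} (e : ∀ n < 16, (g : M4).mulVec (vec n) = (h : M4).mulVec (vec n)) : g = h := by
  refine Units.ext (Matrix.toLin'.injective (LinearMap.ext fun v => ?_))
  rw [Matrix.toLin'_apply, Matrix.toLin'_apply]
  have := e _ (num_lt v)
  rwa [vec_num] at this

theorem vec_inj {a b : ℕ} (ha : a < 16) (hb : b < 16) (e : vec a = vec b) : a = b := by
  rw [← num_vec a ha, e, num_vec b hb]

theorem num_add (v w : Fin 4 → ZMod 2) : num (v + w) = num v ^^^ num w := by
  have h := vec_xor _ (num_lt v) _ (num_lt w)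
  rw [vec_num, vec_num] at h
  rw [← h, num_vec _ (xor_lt (num_lt v) (num_lt w))]

theorem additive_eq {f : ℕ → ℕ} (hadd : ∀ a < 16, ∀ b < 16, f (a ^^^ b) = f a ^^^ f b) (n : ℕ) (hn : n < 16) :
    f n = linMap (f 1) (f 2) (f 4) (f 8) n := by
  have h0 : f 0 = 0 := by
    have := hadd 0 (by norm_num) 0 (by norm_num)
    rwa [Nat.xor_self, Nat.xor_self] at this
  conv_lhs => rw [Numeric.bits n hn]
  have hb : ∀ k x : ℕ, x < 16 → (if n.testBit k then x else 0) < 16 := fun k x hx => by split <;> omega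
  unfold linMap
  rw [hadd _ (xor_lt (xor_lt (hb 0 1 (by norm_num)) (hb 1 2 (by norm_num))) (hb 2 4 (by norm_num))) _ (hb 3 8 (by norm_num)),
    hadd _ (xor_lt (hb 0 1 (by norm_num)) (hb 1 2 (by norm_num))) _ (hb 2 4 (by norm_num)),
    hadd _ (hb 0 1 (by norm_num)) _ (hb 1 2 (by norm_num)), apply_ite f, apply_ite f, apply_ite f, apply_ite f, h0]

theorem mulVec_zpow : ∀ j : ℕ, ∀ m < 16, ((Mz ^ j : GV) : M4).mulVec (vec m) = vec (znPow j m) := by
  intro j
  induction j with
  | zero => intro m _; rw [pow_zero, Units.val_one, Matrix.one_mulVec]; rfl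
  | succ j ih =>
    intro m hm
    rw [pow_succ', Units.val_mul, ← Matrix.mulVec_mulVec, ih m hm, mulVec_z _ (znPow_lt j hm)]
    rfl

theorem normalize {a t : GV} (ha : a ^ 5 = 1) (ha1 : a ≠ 1) (ht : t * t = 1) (hta : t * a * t⁻¹ = a⁻¹) :
    ∃ h : GV, h * a * h⁻¹ = Mz ∧ h * t * h⁻¹ = Mt := by
  classical
  haveI : Fact (Nat.Prime 5) := ⟨by norm_num⟩
  have hz5 : Mz ^ 5 = 1 := GV_ext fun m hm => by
    rw [mulVec_zpow 5 m hm, Units.val_one, Matrix.one_mulVec, Numeric.basis_shift.2.2.2 m hm]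
  have hoz : orderOf Mz = 5 := orderOf_eq_prime hz5 fun h => Mz_ne (congrArg Units.val h)
  have hoa : orderOf a = 5 := orderOf_eq_prime ha ha1
  have hsyl : ∀ g : GV, orderOf g = 5 → ∃ P : Sylow 5 GV, (P : Subgroup GV) = Subgroup.zpowers g := by
    intro g hg
    obtain ⟨P, hP⟩ := (IsPGroup.of_card (p := 5) (n := 1)
      (by rw [Nat.card_zpowers, hg, pow_one]) : IsPGroup 5 (Subgroup.zpowers g)).exists_le_sylow
    refine ⟨P, (Subgroup.eq_of_le_of_card_ge hP ?_).symm⟩
    rw [Nat.card_zpowers, hg, show Nat.card (P : Subgroup GV) = 5 ^ 1 from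
      SmallOrder.card_sylow_eq (k := 1) P (by rw [card_GV]; norm_num) (by rw [card_GV]; norm_num)]
    norm_num
  obtain ⟨P, hP⟩ := hsyl a hoa
  obtain ⟨R, hR⟩ := hsyl Mz hoz
  obtain ⟨g, hg⟩ := MulAction.exists_smul_eq GV P R
  have hmem : g * a * g⁻¹ ∈ Subgroup.zpowers Mz := by
    rw [← hR, ← hg, ← SetLike.mem_coe, Sylow.coe_subgroup_smul]
    exact ⟨a, by rw [hP]; exact Subgroup.mem_zpowers a, by simp [MulAut.conj_apply]⟩
  obtain ⟨i, hi⟩ := mem_powers_iff_mem_zpowers.mpr hmem
  replace hi : Mz ^ i = g * a * g⁻¹ := hi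
  rw [← Nat.div_add_mod i 5, pow_add, pow_mul, hz5, one_pow, one_mul] at hi
  have hF : Mf * Mz * Mf⁻¹ = Mz ^ 2 := by
    rw [mul_inv_eq_iff_eq_mul, sq]
    exact Units.ext Mf_rel
  have hFp : ∀ k : ℕ, ∀ j : ℕ, Mf ^ k * Mz ^ j * (Mf ^ k)⁻¹ = Mz ^ (j * 2 ^ k) := by
    intro k
    induction k with
    | zero => intro j; simp
    | succ k ih =>
      intro j
      rw [pow_succ, show Mf ^ k * Mf * Mz ^ j * (Mf ^ k * Mf)⁻¹ = Mf ^ k * (Mf * Mz ^ j * Mf⁻¹) * (Mf ^ k)⁻¹ by group,
        ← conj_pow, hF, ← pow_mul, ih]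
      congr 1
      ring
  obtain ⟨h₁, h1⟩ : ∃ h₁ : GV, h₁ * a * h₁⁻¹ = Mz := by
    have hi5 : i % 5 < 5 := Nat.mod_lt _ (by norm_num)
    have hne : i % 5 ≠ 0 := by
      intro e
      rw [e, pow_zero] at hi
      exact ha1 (by
        have := congrArg (fun x => g⁻¹ * x * g) hi
        simpa [mul_assoc] using this.symm)
    obtain ⟨k, hk⟩ : ∃ k : ℕ, i % 5 * 2 ^ k % 5 = 1 := by
      rcases (show i % 5 = 1 ∨ i % 5 = 2 ∨ i % 5 = 3 ∨ i % 5 = 4 by omega) with e | e | e | e <;> rw [e]
      · exact ⟨0, rfl⟩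
      · exact ⟨3, rfl⟩
      · exact ⟨1, rfl⟩
      · exact ⟨2, rfl⟩
    refine ⟨Mf ^ k * g, ?_⟩
    rw [show Mf ^ k * g * a * (Mf ^ k * g)⁻¹ = Mf ^ k * (g * a * g⁻¹) * (Mf ^ k)⁻¹ by group, ← hi, hFp,
      ← Nat.div_add_mod (i % 5 * 2 ^ k) 5, hk, pow_add, pow_mul, hz5, one_pow, one_mul, pow_one]
  obtain ⟨s, hs⟩ : ∃ s, s = h₁ * t * h₁⁻¹ := ⟨_, rfl⟩
  have hs2 : s * s = 1 := by rw [hs, show h₁ * t * h₁⁻¹ * (h₁ * t * h₁⁻¹) = h₁ * (t * t) * h₁⁻¹ by group, ht]; group
  have hsz : s * Mz * s⁻¹ = Mz⁻¹ := by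
    rw [hs, ← h1, show h₁ * t * h₁⁻¹ * (h₁ * a * h₁⁻¹) * (h₁ * t * h₁⁻¹)⁻¹ = h₁ * (t * a * t⁻¹) * h₁⁻¹ by group, hta]
    group
  obtain ⟨f, hf⟩ : ∃ f : ℕ → ℕ, ∀ n, f n = num ((s : M4).mulVec (vec n)) := ⟨_, fun n => rfl⟩
  have hfv : ∀ n, (s : M4).mulVec (vec n) = vec (f n) := fun n => by rw [hf, vec_num]
  have hflt : ∀ n, f n < 16 := fun n => by rw [hf]; exact num_lt _
  have hadd : ∀ x < 16, ∀ y < 16, f (x ^^^ y) = f x ^^^ f y := fun x hx y hy => by
    rw [hf, hf, hf, vec_xor x hx y hy, Matrix.mulVec_add, num_add]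
  have hzf : ∀ m < 16, f m = zn (f (zn m)) := by
    intro m hm
    have e : Mz * s * Mz = s := by
      have : s * Mz = Mz⁻¹ * s := by rw [← hsz]; group
      rw [mul_assoc, this]; group
    have := congrArg (fun x : GV => (x : M4).mulVec (vec m)) e
    simp only [Units.val_mul, ← Matrix.mulVec_mulVec] at this
    rw [mulVec_z m hm, hfv, mulVec_z _ (hflt _), hfv] at this
    exact vec_inj (hflt _) (zn_lt _ (hflt _)) this.symm
  obtain ⟨hb1, hb2, hb4, h5⟩ := Numeric.basis_shift
  have e2 : f 1 = zn (f 2) := by rw [hzf 1 (by norm_num), hb1]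
  have e4 : f 2 = zn (f 4) := by rw [hzf 2 (by norm_num), hb2]
  have e8 : f 4 = zn (f 8) := by rw [hzf 4 (by norm_num), hb4]
  have g2 : f 2 = znPow 4 (f 1) := by
    rw [e2]; exact (h5 _ (hflt 2)).symm
  have g4 : f 4 = znPow 3 (f 1) := by
    rw [e2, e4]; exact (h5 _ (hflt 4)).symm
  have g8 : f 8 = znPow 2 (f 1) := by
    rw [e2, e4, e8]; exact (h5 _ (hflt 8)).symm
  have hinv : ∀ m < 16, f m = Numeric.invMap (f 1) m := fun m hm => by
    rw [additive_eq hadd m hm, g2, g4, g8]; rfl
  rcases Numeric.inv_checked (f 1) (hflt 1) with ⟨m, hm, hne⟩ | ⟨k, -, hk⟩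
  · exfalso
    refine hne ?_
    rw [← hinv m hm, ← hinv _ (hflt m)]
    have := congrArg (fun x : GV => (x : M4).mulVec (vec m)) hs2
    simp only [Units.val_mul, ← Matrix.mulVec_mulVec, Units.val_one, Matrix.one_mulVec] at this
    rw [hfv, hfv] at this
    exact vec_inj (hflt _) hm this
  have hkey : Mz ^ k * s = Mt * Mz ^ k := GV_ext fun m hm => by
    rw [Units.val_mul, Units.val_mul, ← Matrix.mulVec_mulVec, ← Matrix.mulVec_mulVec, hfv, mulVec_zpow k _ (hflt m),
      mulVec_zpow k m hm, mulVec_t _ (znPow_lt k hm), hinv m hm, hk m hm]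
  refine ⟨Mz ^ k * h₁, ?_, ?_⟩
  · rw [show Mz ^ k * h₁ * a * (Mz ^ k * h₁)⁻¹ = Mz ^ k * (h₁ * a * h₁⁻¹) * (Mz ^ k)⁻¹ by group, h1]
    group
  · rw [show Mz ^ k * h₁ * t * (Mz ^ k * h₁)⁻¹ = Mz ^ k * s * (Mz ^ k)⁻¹ by rw [hs]; group, hkey]
    group

/-- Coordinates adapted to a dihedral group of order ten. -/
theorem coords {V : Type*} [CommGroup V] [Finite V] (he : ∀ x : V, x ^ 2 = 1) (hc : Nat.card V = 16)
    (σc σt : MulAut V) (h5 : σc ^ 5 = 1) (h1 : σc ≠ 1) (h2 : σt * σt = 1) (hinv : σt * σc * σt⁻¹ = σc⁻¹) :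
    ∃ (N : V → ℕ) (E : ℕ → V), (∀ v, N v < 16) ∧ (∀ v, E (N v) = v) ∧ (∀ n < 16, N (E n) = n) ∧
      (∀ v w, N (v * w) = N v ^^^ N w) ∧ (∀ v, N (σc v) = zn (N v)) ∧ (∀ v, N (σt v) = tn (N v)) := by
  obtain ⟨n, ι, f, hn, hf, hact⟩ := exists_lin he
  obtain rfl : n = 4 := Nat.pow_right_injective (le_refl 2) (hn.symm.trans (hc.trans (by norm_num)))
  obtain ⟨h, ha, ht⟩ := normalize (a := f σc) (t := f σt) (by rw [← map_pow, h5, map_one])
    (fun e => h1 (hf (e.trans (map_one f).symm))) (by rw [← map_mul, h2, map_one])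
    (by rw [← map_inv, ← map_mul, ← map_mul, hinv, map_inv])
  refine ⟨fun v => num ((h : M4).mulVec (ι (Additive.ofMul v))),
    fun k => Additive.toMul (ι.symm (((h⁻¹ : GV) : M4).mulVec (vec k))), fun v => num_lt _, fun v => ?_, fun k hk => ?_,
    fun v w => ?_, fun v => ?_, fun v => ?_⟩
  · simp only [vec_num, Matrix.mulVec_mulVec, ← Units.val_mul, inv_mul_cancel, Units.val_one, Matrix.one_mulVec,
      ι.symm_apply_apply]
    rfl
  · simp only [ofMul_toMul, ι.apply_symm_apply, Matrix.mulVec_mulVec, ← Units.val_mul, mul_inv_cancel, Units.val_one,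
      Matrix.one_mulVec]
    exact num_vec k hk
  · simp only [ofMul_mul, map_add, Matrix.mulVec_add, num_add]
  · have e : h * f σc = Mz * h := by rw [← ha]; group
    simp only [hact, Matrix.mulVec_mulVec, ← Units.val_mul, e]
    rw [Units.val_mul, ← Matrix.mulVec_mulVec]
    conv_lhs => rw [← vec_num ((h : M4).mulVec (ι (Additive.ofMul v))), mulVec_z _ (num_lt _)]
    exact num_vec _ (zn_lt _ (num_lt _))
  · have e : h * f σt = Mt * h := by rw [← ht]; group
    simp only [hact, Matrix.mulVec_mulVec, ← Units.val_mul, e]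
    rw [Units.val_mul, ← Matrix.mulVec_mulVec]
    conv_lhs => rw [← vec_num ((h : M4).mulVec (ι (Additive.ofMul v))), mulVec_t _ (num_lt _)]
    exact num_vec _ (tn_lt _ (num_lt _))

theorem eq_of_mul_eq_one_two {Z : Type*} [CommGroup Z] (hZ : ∀ z : Z, z ^ 2 = 1) {x y : Z} (h : x * y = 1) : x = y := by
  have hy : y * y = 1 := by rw [← sq, hZ]
  calc x = x * (y * y) := by rw [hy, mul_one]
    _ = y := by rw [← mul_assoc, h, one_mul]

/-- The possible quadratic maps. -/
theorem core {V Z A : Type*} [CommGroup V] [Finite V] [CommGroup Z] [Finite Z] [Group A] [Finite A] [IsSimpleGroup A]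
    (hA : Nat.card A = 60) (hV : ∀ v : V, v ^ 2 = 1) (hVc : Nat.card V = 16) (hZ : ∀ z : Z, z ^ 2 = 1)
    (hZc : Nat.card Z ≤ 16) (q : V → Z)
    (hB : ∀ u v w : V, q (u * v * w) * q (u * v) * q w = (q (u * w) * q u * q w) * (q (v * w) * q v * q w))
    (hgen : Subgroup.closure (Set.range q) = ⊤) (ρV : A →* MulAut V) (hρ : Function.Injective ρV) (ρZ : A →* MulAut Z)
    (heq : ∀ g v, q (ρV g v) = ρZ g (q v)) (c t : A) (hc : c ^ 5 = 1) (hc1 : c ≠ 1) (ht : t * t = 1)
    (hinv : t * c * t⁻¹ = c⁻¹) :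
    ((∀ u w, q (u * w) = q u * q w) ∧ Function.Injective q ∧ Nat.card Z = 16 ∧
        (∀ v, ρV t v = v → ∃ w, v = w * ρV t w) ∧ Nat.card {v : V // ρV t v = v} = 4) ∨
      (Nat.card Z = 16 ∧ ∃ u w : V, u ≠ 1 ∧ w ≠ 1 ∧ u ≠ w ∧
        ∃ x : Z, (q u = 1 ∨ q u = x) ∧ (q w = 1 ∨ q w = x) ∧ (q (u * w) = 1 ∨ q (u * w) = x)) ∨
      (Nat.card Z ≤ 2 ∧ ∀ z₀ : Z, z₀ ≠ 1 → ∃ a b c' d : V, q a = z₀ ∧ q b = z₀ ∧ q (a * b) = z₀ ∧ q c' = 1 ∧
        q d = 1 ∧ q (c' * d) = z₀ ∧ q (a * c') = q a ∧ q (a * d) = q a ∧ q (b * c') = q b ∧ q (b * d) = q b ∧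
        (∀ v, v ∈ Subgroup.closure ({a, b, c', d} : Set V)) ∧
        (∀ v, v ≠ 1 → ∃ w, q (v * w) * q v * q w = z₀) ∧
        (∀ v, q v = z₀ ∨ ∃ w, q w = z₀ ∧ q (v * w) = z₀)) := by
  classical
  obtain ⟨N, E, hlt, hEN, hNE, hmul, hNc, hNt⟩ := coords hV hVc (ρV c) (ρV t)
    (by rw [← map_pow, hc, map_one]) (fun e => hc1 (hρ (e.trans (map_one ρV).symm)))
    (by rw [← map_mul, ht, map_one]) (by rw [← map_inv, ← map_mul, ← map_mul, hinv, map_inv])
  have hNinj : Function.Injective N := fun v w e => by rw [← hEN v, e, hEN]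
  have hN1 : N 1 = 0 := by
    have := hmul 1 1
    rw [mul_one, Nat.xor_self] at this
    exact this
  have hE0 : E 0 = 1 := by rw [← hN1, hEN]
  have hEmul : ∀ a < 16, ∀ b < 16, E (a ^^^ b) = E a * E b := fun a ha b hb => hNinj (by
    rw [hmul, hNE a ha, hNE b hb, hNE _ (xor_lt ha hb)])
  have hq1 : q 1 = 1 := by
    have := hB 1 1 1
    simp only [mul_one] at this
    have h3 : q 1 * q 1 = 1 := by rw [← sq, hZ]
    rw [h3, one_mul] at this
    exact left_eq_mul.mp this
  by_cases hZc1 : ρZ c = 1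
  · -- trivial action
    right; right
    have hZtriv : ∀ g, ρZ g = 1 := by
      rcases Subgroup.Normal.eq_bot_or_eq_top (inferInstance : ρZ.ker.Normal) with h | h
      · exact absurd (h ▸ (hZc1 : c ∈ ρZ.ker)) (fun hh => hc1 (Subgroup.mem_bot.mp hh))
      · exact fun g => MonoidHom.mem_ker.mp (h ▸ Subgroup.mem_top g)
    have hqg : ∀ g v, q (ρV g v) = q v := fun g v => by rw [heq, hZtriv]; rfl
    have hqz : ∀ n < 16, q (E (zn n)) = q (E n) := fun n hn => by
      rw [show E (zn n) = ρV c (E n) from hNinj (by rw [hNc, hNE n hn, hNE _ (zn_lt n hn)]), hqg]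
    have hval : ∀ n < 16, n ≠ 0 → q (E n) = q (E (repT.getD (orbitOf n) 0)) := by
      intro n hn h0
      rcases pos_checked n hn with e | ⟨i, -, j, hj, e, hpow⟩
      · exact absurd e h0
      rw [orbitOf, e]
      have hp : ∀ i v, v < 16 → q (E (znPow i v)) = q (E v) := by
        intro i v hv
        induction i with
        | zero => rfl
        | succ i ih => exact (hqz _ (znPow_lt i hv)).trans ih
      conv_lhs => rw [← hpow]
      exact hp i _ (rep_fixed j hj).1
    obtain ⟨a, ha⟩ : ∃ a, a = q (E 1) := ⟨_, rfl⟩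
    obtain ⟨b, hb⟩ : ∃ b, b = q (E 12) := ⟨_, rfl⟩
    obtain ⟨c0, hc0⟩ : ∃ c0, c0 = q (E 13) := ⟨_, rfl⟩
    obtain ⟨val, hvaldef⟩ : ∃ val : ℕ → Z, ∀ k, val k = if k = 0 then a else if k = 1 then b else c0 := ⟨_, fun k => rfl⟩
    have hv : ∀ n < 16, n ≠ 0 → q (E n) = val (orbitOf n) := by
      intro n hn h0
      rw [hval n hn h0, hvaldef]
      have h3 := Numeric.orbit_lt n hn h0
      generalize orbitOf n = j at h3 ⊢
      interval_cases j <;> simp [repT, ha, hb, hc0]
    have hab : c0 = a * b := by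
      have h := hB (E 1) (E 2) (E 4)
      rw [show E 1 * E 2 = E 3 from (hEmul 1 (by norm_num) 2 (by norm_num)).symm,
        show E 3 * E 4 = E 7 from (hEmul 3 (by norm_num) 4 (by norm_num)).symm,
        show E 1 * E 4 = E 5 from (hEmul 1 (by norm_num) 4 (by norm_num)).symm,
        show E 2 * E 4 = E 6 from (hEmul 2 (by norm_num) 4 (by norm_num)).symm] at h
      obtain ⟨o1, o2, o4, o3, o5, o6, o7⟩ := Numeric.triple
      rw [hv 7 (by norm_num) (by norm_num), hv 3 (by norm_num) (by norm_num), hv 4 (by norm_num) (by norm_num),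
        hv 5 (by norm_num) (by norm_num), hv 1 (by norm_num) (by norm_num), hv 6 (by norm_num) (by norm_num),
        hv 2 (by norm_num) (by norm_num), o1, o2, o3, o4, o5, o6, o7, hvaldef 0, hvaldef 1, hvaldef 2] at h
      simp only [if_pos, if_neg (show ¬ (1 = 0) by norm_num), if_neg (show ¬ (2 = 0) by norm_num),
        if_neg (show ¬ (2 = 1) by norm_num)] at h
      have haa : a * a = 1 := by rw [← sq, hZ]
      have hbb : b * b = 1 := by rw [← sq, hZ]
      rw [hbb, one_mul, show c0 * a * a = c0 by rw [mul_assoc, haa, mul_one],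
        show b * a * a = b by rw [mul_assoc, haa, mul_one]] at h
      calc c0 = c0 * (b * b) := by rw [hbb, mul_one]
        _ = a * b := by rw [← mul_assoc, ← h]
    have hnot : ¬ (a ≠ 1 ∧ b ≠ 1 ∧ c0 ≠ 1) := by
      rintro ⟨ha1, hb1, hc1'⟩
      have hane : a ≠ b := fun e => hc1' (by rw [hab, e, ← sq, hZ])
      have hac : a ≠ c0 := fun e => hb1 (by
        rw [hab] at e
        exact (left_eq_mul.mp e))
      have hbc : b ≠ c0 := fun e => ha1 (by
        rw [hab] at e
        exact (right_eq_mul.mp e))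
      have hinjv : ∀ i < 3, ∀ j < 3, val i = val j → i = j := by
        intro i hi j hj e
        rw [hvaldef, hvaldef] at e
        interval_cases i <;> interval_cases j <;>
          first
            | rfl
            | exact absurd e (by simpa using hane)
            | exact absurd e.symm (by simpa using hane)
            | exact absurd e (by simpa using hac)
            | exact absurd e.symm (by simpa using hac)
            | exact absurd e (by simpa using hbc)
            | exact absurd e.symm (by simpa using hbc)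
      have hval1 : ∀ i, val i ≠ 1 := fun i => by
        rw [hvaldef]; split_ifs <;> assumption
      let img : A → ℕ × ℕ × ℕ × ℕ := fun g => (N (ρV g (E 1)), N (ρV g (E 2)), N (ρV g (E 4)), N (ρV g (E 8)))
      have hlin : ∀ g, ∀ n < 16, N (ρV g (E n)) = linMap (img g).1 (img g).2.1 (img g).2.2.1 (img g).2.2.2 n := by
        intro g n hn
        refine additive_eq (f := fun n => N (ρV g (E n))) (fun x hx y hy => ?_) n hn
        show N (ρV g (E (x ^^^ y))) = _
        rw [hEmul x hx y hy, map_mul, hmul]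
      have hpres : ∀ g, ∀ n < 16, n ≠ 0 → N (ρV g (E n)) ≠ 0 ∧ orbitOf (N (ρV g (E n))) = orbitOf n := by
        intro g n hn h0
        have hne : N (ρV g (E n)) ≠ 0 := by
          intro e
          have h1 : ρV g (E n) = 1 := hNinj (e.trans hN1.symm)
          have h2 : E n = 1 := (ρV g).injective (h1.trans (map_one (ρV g)).symm)
          exact h0 (by rw [← hNE n hn, h2, hN1])
        refine ⟨hne, hinjv _ (Numeric.orbit_lt _ (hlt _) hne) _ (Numeric.orbit_lt n hn h0) ?_⟩
        rw [← hv _ (hlt _) hne, ← hv n hn h0, hEN, hqg]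
      have hmem : ∀ g, img g ∈ stabList := by
        intro g
        unfold stabList
        simp only [List.mem_filter, List.mem_flatMap, List.mem_map, List.all_eq_true, List.mem_range,
          Bool.or_eq_true, beq_iff_eq, Bool.and_eq_true, bne_iff_ne, ne_eq, sameOrbit]
        refine ⟨⟨_, ⟨hlt _, hpres g 1 (by norm_num) (by norm_num)⟩, _, ⟨hlt _, hpres g 2 (by norm_num) (by norm_num)⟩,
          _, ⟨hlt _, hpres g 4 (by norm_num) (by norm_num)⟩, _, ⟨hlt _, hpres g 8 (by norm_num) (by norm_num)⟩, rfl⟩,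
          fun n hn => ?_⟩
        by_cases h0 : n = 0
        · exact Or.inl h0
        · refine Or.inr ?_
          rw [← hlin g n hn]
          exact hpres g n hn h0
      have himg : Function.Injective img := by
        intro g g' e
        refine hρ (MulEquiv.ext fun v => hNinj ?_)
        rw [← hEN v, hlin g _ (hlt v), hlin g' _ (hlt v), e]
      have h1 : Nat.card A ≤ Nat.card {l // l ∈ stabList} :=
        Nat.card_le_card_of_injective (fun g => ⟨img g, hmem g⟩) fun g g' e => himg (congrArg Subtype.val e)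
      have h2 : Nat.card {l // l ∈ stabList} ≤ stabList.length := by
        rw [Nat.card_eq_fintype_card, Fintype.card_of_subtype stabList.toFinset (fun x => List.mem_toFinset)]
        exact stabList.toFinset_card_le
      have := stabList_length
      omega
    obtain ⟨k, hk3, hk⟩ : ∃ k < 3, val k = 1 := by
      by_cases h1 : a = 1
      · exact ⟨0, by norm_num, by rw [hvaldef, if_pos rfl, h1]⟩
      by_cases h2 : b = 1
      · exact ⟨1, by norm_num, by rw [hvaldef, if_neg (by norm_num), if_pos rfl, h2]⟩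
      refine ⟨2, by norm_num, ?_⟩
      rw [hvaldef, if_neg (by norm_num), if_neg (by norm_num)]
      by_contra h3
      exact hnot ⟨h1, h2, h3⟩
    obtain ⟨x, hx⟩ : ∃ x, ∀ j < 3, j ≠ k → val j = x := by
      interval_cases k
      · refine ⟨b, fun j hj hne => ?_⟩
        rw [hvaldef, if_pos rfl] at hk
        interval_cases j
        · exact absurd rfl hne
        · rw [hvaldef]; simp
        · rw [hvaldef]; simp [hab, hk]
      · refine ⟨a, fun j hj hne => ?_⟩
        rw [hvaldef, if_neg (by norm_num), if_pos rfl] at hk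
        interval_cases j
        · rw [hvaldef]; simp
        · exact absurd rfl hne
        · rw [hvaldef]; simp [hab, hk]
      · refine ⟨a, fun j hj hne => ?_⟩
        rw [hvaldef, if_neg (by norm_num), if_neg (by norm_num), hab] at hk
        interval_cases j
        · rw [hvaldef]; simp
        · rw [hvaldef]; simp [eq_of_mul_eq_one_two hZ hk]
        · exact absurd rfl hne
    have hqE : ∀ n < 16, q (E n) = x ^ qBit k n := by
      intro n hn
      by_cases h0 : n = 0
      · subst h0; rw [hE0, hq1]; simp [qBit]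
      rw [hv n hn h0, qBit]
      by_cases hj : orbitOf n = k
      · rw [if_pos (Or.inr hj), hj, hk, pow_zero]
      · rw [if_neg (by tauto), pow_one]
        exact hx _ (Numeric.orbit_lt n hn h0) hj
    have hZ2 : ∀ z : Z, z = 1 ∨ z = x := by
      intro z
      let Hx : Subgroup Z :=
        { carrier := {z | z = 1 ∨ z = x}
          one_mem' := Or.inl rfl
          mul_mem' := by
            rintro u w (rfl | rfl) (rfl | rfl)
            · exact Or.inl (one_mul _)
            · exact Or.inr (one_mul _)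
            · exact Or.inr (mul_one _)
            · exact Or.inl (by rw [← sq, hZ])
          inv_mem' := by
            rintro u (rfl | rfl)
            · exact Or.inl inv_one
            · exact Or.inr (inv_eq_of_mul_eq_one_right (by rw [← sq, hZ])) }
      have hle : Subgroup.closure (Set.range q) ≤ Hx := by
        rw [Subgroup.closure_le]
        rintro _ ⟨v, rfl⟩
        rw [← hEN v, hqE _ (hlt v), qBit]
        split
        · exact Or.inl (pow_zero x)
        · exact Or.inr (pow_one x)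
      exact hle (hgen ▸ Subgroup.mem_top z)
    refine ⟨?_, fun z₀ hz₀ => ?_⟩
    · refine (Nat.card_le_card_of_surjective (fun i : Fin 2 => if i = 0 then (1 : Z) else x) fun z => ?_).trans (by simp)
      rcases hZ2 z with e | e
      · exact ⟨0, by simp [e]⟩
      · exact ⟨1, by simp [e]⟩
    obtain rfl : z₀ = x := (hZ2 z₀).resolve_left hz₀
    have hF := frame_checked k hk3
    have hFs := frame_span k hk3
    generalize frameT.getD k (0, 0, 0, 0) = F at hF hFs
    obtain ⟨l1, l2, l3, l4, q1, q2, q12, q3, q4, q34, p13, p14, p23, p24⟩ := hF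
    have hcross : ∀ m m', m < 16 → m' < 16 → qBit k m' = 0 → polar (qBit k) m m' = 0 →
        q (E m * E m') = q (E m) := by
      intro m m' hm hm' h0 hp
      rw [← hEmul m hm m' hm', hqE _ (xor_lt hm hm'), hqE m hm]
      congr 1
      rw [polar, h0, Nat.xor_zero] at hp
      exact (Nat.xor_eq_zero_iff.mp hp)
    refine ⟨E F.1, E F.2.1, E F.2.2.1, E F.2.2.2, ?_, ?_, ?_, ?_, ?_, ?_, hcross _ _ l1 l3 q3 p13,
      hcross _ _ l1 l4 q4 p14, hcross _ _ l2 l3 q3 p23, hcross _ _ l2 l4 q4 p24, ?_, ?_, ?_⟩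
    · rw [hqE _ l1, q1, pow_one]
    · rw [hqE _ l2, q2, pow_one]
    · rw [← hEmul _ l1 _ l2, hqE _ (xor_lt l1 l2), q12, pow_one]
    · rw [hqE _ l3, q3, pow_zero]
    · rw [hqE _ l4, q4, pow_zero]
    · rw [← hEmul _ l3 _ l4, hqE _ (xor_lt l3 l4), q34, pow_one]
    · intro v
      obtain ⟨e₀, -, e₁, -, e₂, -, e₃, -, hv'⟩ := hFs (N v) (hlt v)
      have hb : ∀ (e m : ℕ), m < 16 → (if e = 1 then m else 0) < 16 := fun e m hm => by split <;> omega
      have hm : ∀ (e m : ℕ), E m ∈ ({E F.1, E F.2.1, E F.2.2.1, E F.2.2.2} : Set V) →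
          E (if e = 1 then m else 0) ∈ Subgroup.closure ({E F.1, E F.2.1, E F.2.2.1, E F.2.2.2} : Set V) := by
        intro e m hm
        split
        · exact Subgroup.subset_closure hm
        · rw [hE0]; exact one_mem _
      rw [← hEN v, hv', hEmul _ (xor_lt (xor_lt (hb _ _ l1) (hb _ _ l2)) (hb _ _ l3)) _ (hb _ _ l4),
        hEmul _ (xor_lt (hb _ _ l1) (hb _ _ l2)) _ (hb _ _ l3), hEmul _ (hb _ _ l1) _ (hb _ _ l2)]
      exact mul_mem (mul_mem (mul_mem (hm _ _ (by simp)) (hm _ _ (by simp))) (hm _ _ (by simp))) (hm _ _ (by simp))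
    · intro v hv1
      rcases nondeg k hk3 (N v) (hlt v) with e | ⟨m, hm, hp⟩
      · exact absurd (hNinj (e.trans hN1.symm)) hv1
      refine ⟨E m, ?_⟩
      have hvm : v * E m = E (N v ^^^ m) := by rw [hEmul _ (hlt v) m hm, hEN]
      rw [hvm, ← hEN v, hNE _ (hlt v), hqE _ (xor_lt (hlt v) hm), hqE _ (hlt v), hqE m hm]
      rw [polar] at hp
      have hbit : ∀ n, qBit k n ≤ 1 := fun n => by unfold qBit; split <;> norm_num
      have h1 := hbit (N v ^^^ m); have h2 := hbit (N v); have h3 := hbit m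
      generalize qBit k (N v ^^^ m) = A1, qBit k (N v) = A2, qBit k m = A3 at hp h1 h2 h3
      have hxx : z₀ * z₀ = 1 := by rw [← sq, hZ]
      interval_cases A1 <;> interval_cases A2 <;> interval_cases A3 <;>
        first
          | exact absurd hp (by decide)
          | simp only [pow_zero, pow_one, one_mul, mul_one, hxx]
    · intro v
      rcases two_ones k hk3 (N v) (hlt v) with e | ⟨m, hm, e1, e2⟩
      · left; rw [← hEN v, hqE _ (hlt v), e, pow_one]
      · refine Or.inr ⟨E m, by rw [hqE m hm, e1, pow_one], ?_⟩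
        rw [← hEN v, ← hEmul _ (hlt v) m hm, hqE _ (xor_lt (hlt v) hm), e2, pow_one]
  · -- a faithful action
    have hcZ : Nat.card Z = 16 := by
      obtain ⟨n, ι, f, hn, hf, -⟩ := exists_lin hZ
      have hn4 : n ≤ 4 := (Nat.pow_le_pow_iff_right (a := 2) (le_refl 2)).mp (by rw [← hn]; exact hZc)
      by_contra hne
      have hn3 : n ≤ 3 := by
        by_contra h
        exact hne (by rw [hn, show n = 4 by omega]; norm_num)
      haveI : Fact (Nat.Prime 5) := ⟨by norm_num⟩
      have ho : orderOf (f (ρZ c)) = 5 := orderOf_eq_prime (by rw [← map_pow, ← map_pow, hc, map_one, map_one])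
        fun e => hZc1 (hf (e.trans (map_one f).symm))
      have hd := ho ▸ orderOf_dvd_natCard (f (ρZ c))
      rw [Matrix.card_GL_field] at hd
      interval_cases n <;> simp [Fin.prod_univ_succ] at hd
    obtain ⟨M, G, hlt', hGM, hMG, hmul', hMc, hMt⟩ := coords hZ hcZ (ρZ c) (ρZ t)
      (by rw [← map_pow, hc, map_one]) hZc1 (by rw [← map_mul, ht, map_one])
      (by rw [← map_inv, ← map_mul, ← map_mul, hinv, map_inv])
    have hMinj : Function.Injective M := fun v w e => by rw [← hGM v, e, hGM]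
    have hM1 : M 1 = 0 := by
      have := hmul' 1 1
      rw [mul_one, Nat.xor_self] at this
      exact this
    obtain ⟨f, hf⟩ : ∃ f : ℕ → ℕ, ∀ n, f n = M (q (E n)) := ⟨_, fun n => rfl⟩
    have hflt : ∀ n, f n < 16 := fun n => hf n ▸ hlt' _
    have hf0 : f 0 = 0 := by rw [hf, hE0, hq1, hM1]
    have hfz : ∀ n < 16, f (zn n) = zn (f n) := fun n hn => by
      rw [hf, hf, show E (zn n) = ρV c (E n) from hNinj (by rw [hNc, hNE n hn, hNE _ (zn_lt n hn)]), heq, hMc]
    have hft : ∀ j < 3, tn (f (repT.getD j 0)) = f (repT.getD j 0) := fun j hj => by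
      obtain ⟨hr, hfix⟩ := rep_fixed j hj
      rw [hf, ← hMt, ← heq]
      congr 2
      exact hNinj (by rw [hNt, hNE _ hr, hfix])
    have hfix : ∀ j < 3, f (repT.getD j 0) ∈ fixT := fun j hj => fixT_checked _ (hflt _) (hft j hj)
    obtain ⟨g, hg⟩ : ∃ g, g = qOf (f 1) (f 12) (f 13) := ⟨_, rfl⟩
    have hfg : ∀ n < 16, g n = f n := fun n hn => by rw [hg]; exact (eq_qOf hf0 hfz n hn).symm
    have hpol : ∀ x < 16, ∀ y < 16, ∀ z < 16, f (x ^^^ y ^^^ z) ^^^ f (x ^^^ y) ^^^ f z =
        (f (x ^^^ z) ^^^ f x ^^^ f z) ^^^ (f (y ^^^ z) ^^^ f y ^^^ f z) := by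
      intro x hx y hy z hz
      simp only [hf]
      rw [← hmul', ← hmul', ← hmul', ← hmul', ← hmul', ← hmul', ← hmul', hEmul _ (xor_lt hx hy) z hz,
        hEmul x hx y hy, hEmul x hx z hz, hEmul y hy z hz, hB]
    have hquad : isQuad g = true := by
      simp only [isQuad, List.all_eq_true, List.mem_range, beq_iff_eq]
      intro n hn
      obtain ⟨B, hBd⟩ : ∃ B : V → V → Z, ∀ u w, B u w = q (u * w) * q u * q w := ⟨_, fun u w => rfl⟩
      have hsq : ∀ z : Z, z * z = 1 := fun z => by rw [← sq, hZ]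
      have hsum : ∀ u w, q (u * w) = q u * q w * B u w := fun u w => by
        rw [hBd]
        calc q (u * w) = q (u * w) * ((q u * q u) * (q w * q w)) := by rw [hsq, hsq, one_mul, mul_one]
          _ = _ := by simp only [mul_comm, mul_left_comm, mul_assoc]
      have hB1 : ∀ u w z, B (u * w) z = B u z * B w z := fun u w z => by rw [hBd, hBd, hBd]; exact hB u w z
      have hB0 : ∀ w, B 1 w = 1 := fun w => by rw [hBd, one_mul, hq1, mul_one, hsq]
      have hB0' : ∀ w, B w 1 = 1 := fun w => by rw [hBd, mul_one, hq1, mul_one, hsq]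
      obtain ⟨t, htk⟩ : ∃ t : ℕ → V, ∀ k, t k = if n.testBit k then E (2 ^ k) else 1 := ⟨_, fun k => rfl⟩
      have hbl : ∀ k < 4, (if n.testBit k then 2 ^ k else 0) < 16 := fun k hk => by
        interval_cases k <;> split <;> norm_num
      have ht' : ∀ k, E (if n.testBit k then 2 ^ k else 0) = t k := fun k => by rw [htk]; split <;> [rfl; exact hE0]
      have hn' : E n = t 0 * t 1 * t 2 * t 3 := by
        conv_lhs => rw [Numeric.bits n hn]
        rw [show linMap 1 2 4 8 n = (if n.testBit 0 then 2 ^ 0 else 0) ^^^ (if n.testBit 1 then 2 ^ 1 else 0) ^^^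
            (if n.testBit 2 then 2 ^ 2 else 0) ^^^ (if n.testBit 3 then 2 ^ 3 else 0) from rfl,
          hEmul _ (xor_lt (xor_lt (hbl 0 (by norm_num)) (hbl 1 (by norm_num))) (hbl 2 (by norm_num))) _ (hbl 3 (by norm_num)),
          hEmul _ (xor_lt (hbl 0 (by norm_num)) (hbl 1 (by norm_num))) _ (hbl 2 (by norm_num)),
          hEmul _ (hbl 0 (by norm_num)) _ (hbl 1 (by norm_num)), ht', ht', ht', ht']
      have hMt' : ∀ k < 4, M (q (t k)) = if n.testBit k then g (2 ^ k) else 0 := fun k hk => by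
        rw [htk]
        split
        · rw [hfg _ (by interval_cases k <;> norm_num), hf]
        · rw [hq1, hM1]
      have hMB : ∀ k < 4, ∀ l < 4, M (B (t k) (t l)) =
          if n.testBit k && n.testBit l then polar g (2 ^ k) (2 ^ l) else 0 := fun k hk l hl => by
        have h1 : 2 ^ k < 16 := by interval_cases k <;> norm_num
        have h2 : 2 ^ l < 16 := by interval_cases l <;> norm_num
        rw [htk, htk]
        by_cases bk : n.testBit k
        · by_cases bl : n.testBit l
          · rw [if_pos bk, if_pos bl, if_pos (by rw [bk, bl]; rfl), hBd, hmul', hmul', ← hEmul _ h1 _ h2, polar,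
              hfg _ (xor_lt h1 h2), hfg _ h1, hfg _ h2, hf, hf, hf]
          · rw [if_neg bl, hB0', hM1, if_neg (by simp [bl])]
        · rw [if_neg bk, hB0, hM1, if_neg (by simp [bk])]
      rw [hfg n hn, hf, hn', hsum, hsum, hsum, hB1 (t 0 * t 1) (t 2) (t 3), hB1 (t 0) (t 1) (t 3), hB1 (t 0) (t 1) (t 2)]
      simp only [hmul', hMt' 0 (by norm_num), hMt' 1 (by norm_num), hMt' 2 (by norm_num), hMt' 3 (by norm_num),
        hMB 0 (by norm_num) 1 (by norm_num), hMB 0 (by norm_num) 2 (by norm_num), hMB 0 (by norm_num) 3 (by norm_num),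
        hMB 1 (by norm_num) 2 (by norm_num), hMB 1 (by norm_num) 3 (by norm_num), hMB 2 (by norm_num) 3 (by norm_num),
        expansion, Nat.xor_assoc, Nat.xor_comm, Nat.xor_left_comm, pow_zero, pow_one,
        show (2 : ℕ) ^ 2 = 4 from rfl, show (2 : ℕ) ^ 3 = 8 from rfl]
    have hcases := equivariant_cases
    simp only [List.all_eq_true, Bool.or_eq_true, Bool.not_eq_true', Bool.and_eq_true] at hcases
    rcases hcases _ (hfix 0 (by norm_num)) _ (hfix 1 (by norm_num)) _ (hfix 2 (by norm_num)) with (h | h) | ⟨hl, hz⟩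
    · exfalso
      rw [hg] at hquad
      exact Bool.noConfusion (h.symm.trans hquad)
    · right; left
      refine ⟨hcZ, ?_⟩
      have h' : hasPlane g = true := by rw [hg]; exact h
      simp only [hasPlane, List.any_eq_true, List.mem_range, Bool.and_eq_true, bne_iff_ne, ne_eq, Bool.or_eq_true,
        beq_iff_eq] at h'
      obtain ⟨u, hu, w, hw, ⟨⟨hu0, hw0⟩, huw⟩, ⟨hxy, hxz⟩, hyz⟩ := h'
      rw [hfg u hu, hfg w hw] at hxy
      rw [hfg u hu, hfg _ (xor_lt hu hw)] at hxz
      rw [hfg w hw, hfg _ (xor_lt hu hw)] at hyz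
      have hz0 : ∀ m, f m = 0 → q (E m) = 1 := fun m e => hMinj (by rw [← hf, e, hM1])
      have heq' : ∀ m m', f m = f m' → q (E m) = q (E m') := fun m m' e => hMinj (by rw [← hf, ← hf, e])
      have hne : ∀ m < 16, m ≠ 0 → E m ≠ 1 := fun m hm h0 e => h0 (by rw [← hNE m hm, e, hN1])
      refine ⟨E u, E w, hne u hu hu0, hne w hw hw0, fun e => huw (by rw [← hNE u hu, e, hNE w hw]), ?_⟩
      rw [← hEmul u hu w hw]
      by_cases hx0 : f u = 0
      · by_cases hy0 : f w = 0
        · exact ⟨q (E (u ^^^ w)), Or.inl (hz0 _ hx0), Or.inl (hz0 _ hy0), Or.inr rfl⟩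
        · refine ⟨q (E w), Or.inl (hz0 _ hx0), Or.inr rfl, ?_⟩
          rcases hyz with (h1 | h1) | h1
          · exact absurd h1 hy0
          · exact Or.inl (hz0 _ h1)
          · exact Or.inr (heq' _ _ h1.symm)
      · refine ⟨q (E u), Or.inr rfl, ?_, ?_⟩
        · rcases hxy with (h1 | h1) | h1
          · exact absurd h1 hx0
          · exact Or.inl (hz0 _ h1)
          · exact Or.inr (heq' _ _ h1.symm)
        · rcases hxz with (h1 | h1) | h1
          · exact absurd h1 hx0
          · exact Or.inl (hz0 _ h1)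
          · exact Or.inr (heq' _ _ h1.symm)
    · left
      have hl' : isLin g = true := by rw [hg]; exact hl
      simp only [isLin, List.all_eq_true, List.mem_range, beq_iff_eq] at hl'
      have hhom : ∀ u w, q (u * w) = q u * q w := by
        intro u w
        refine hMinj ?_
        rw [hmul']
        have := hl' _ (hlt u) _ (hlt w)
        rw [hfg _ (xor_lt (hlt u) (hlt w)), hfg _ (hlt u), hfg _ (hlt w), hf, hf, hf, ← hmul, hEN, hEN, hEN] at this
        exact this
      have hker : ∀ v, q v = 1 → v = 1 := by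
        intro v e
        by_contra hne
        have h0 : N v ≠ 0 := fun h => hne (hNinj (h.trans hN1.symm))
        have := hz (N v) (List.mem_range.mpr (hlt v))
        rw [show qOf (f (repT.getD 0 0)) (f (repT.getD 1 0)) (f (repT.getD 2 0)) = g from hg.symm,
          hfg _ (hlt v), hf, hEN, e, hM1] at this
        simp [h0] at this
      refine ⟨hhom, fun u w e => ?_, hcZ, fun v hv => ?_, ?_⟩
      · have : q (u * w) = 1 := by rw [hhom, e, ← sq, hZ]
        exact eq_of_mul_eq_one_two hV (hker _ this)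
      · have h1 : tn (N v) = N v := by rw [← hNt, hv]
        obtain ⟨m, hm, e⟩ := torsor_fixed _ (hlt v) h1
        refine ⟨E m, hNinj ?_⟩
        rw [hmul, hNt, hNE m hm]
        exact e
      · let e : {v : V // ρV t v = v} ≃ {n : ℕ // n ∈ fixT} :=
          { toFun := fun v => ⟨N v, fixT_checked _ (hlt _) (by rw [← hNt, v.2])⟩
            invFun := fun n => ⟨E n, hNinj (by
              have hn : n.1 < 16 := by
                have := n.2; simp only [fixT, List.mem_cons, List.not_mem_nil, or_false] at this; omega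
              rw [hNt, hNE _ hn]
              exact (fixed_list _ hn).mpr n.2)⟩
            left_inv := fun v => Subtype.ext (hEN _)
            right_inv := fun n => Subtype.ext (hNE _ (by
              have := n.2; simp only [fixT, List.mem_cons, List.not_mem_nil, or_false] at this; omega)) }
        rw [Nat.card_congr e, Nat.card_eq_fintype_card,
          Fintype.card_of_subtype fixT.toFinset (fun x => List.mem_toFinset)]
        decide

end CfsgLib.SectFour
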