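/-
A central layer below a four-dimensional module for a group of order sixty.
-/
import Cfsg.Agent.Lib.SectFour.Quad
import Cfsg.Agent.Lib.CentralPairRank
import Cfsg.Prelude.Def_CaseTheorems

set_option autoImplicit false
set_option linter.style.haveILetI false
set_option maxRecDepth 8000

namespace CfsgLib.SectFour

open Cfsg
open scoped commutatorElement

theorem five_elements : ∃ c t : alternatingGroup (Fin 5), c ^ 5 = 1 ∧ c ≠ 1 ∧ t * t = 1 ∧ t * c * t⁻¹ = c⁻¹ := by
  decide +kernel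

theorem card_alt_five : Nat.card (alternatingGroup (Fin 5)) = 60 := by
  have := EightSubgroups.card_alt (α := Fin 5) 5 (by simp) (by norm_num)
  rw [show Nat.factorial 5 = 120 from rfl] at this
  omega

/-- The commutator is a product of squares. -/
theorem commutator_sq {G : Type*} [Group G] (a b : G) : ⁅a, b⁆ = a ^ 2 * (a⁻¹ * b) ^ 2 * (b⁻¹) ^ 2 := by
  rw [commutatorElement_def, sq, sq, sq]; group

theorem five_mul {M : Type*} [CommMonoid M] (a b c : M) : a * b * c * a * b = (a * a) * (b * b) * c := by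
  simp only [mul_comm, mul_left_comm]

set_option maxHeartbeats 2000000 in
theorem layer {X Y : Type*} [Group X] [Finite X] [Group Y] [Finite Y] (hr : SectionalPRankLE 2 4 X) (π : X →* Y)
    (hπ : Function.Surjective π) (R Z : Subgroup Y) [R.Normal] [Z.Normal] (hZR : Z ≤ R)
    (hcen : ∀ z ∈ Z, ∀ r ∈ R, z * r = r * z) (hZ : ∀ z ∈ Z, z ^ 2 = 1) (hsq : ∀ r ∈ R, r ^ 2 ∈ Z)
    (hgen : Z ≤ Subgroup.closure {g | ∃ r ∈ R, g = r ^ 2}) (hidx : Z.relIndex R = 16)
    (hfaith : ∀ y : Y, (∀ r ∈ R, y * r * y⁻¹ * r⁻¹ ∈ Z) → y ∈ R)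
    (e : alternatingGroup (Fin 5) →* Y ⧸ R) (he : Function.Injective e) :
    Nat.card Z ≤ 2 ∧ (Z ≠ ⊥ → ∃ z₀ ∈ Z, z₀ ≠ 1 ∧ ∃ a ∈ R, ∃ b ∈ R, ∃ c ∈ R, ∃ d ∈ R,
      a ^ 2 = z₀ ∧ b ^ 2 = z₀ ∧ (a * b) ^ 2 = z₀ ∧ c ^ 2 = 1 ∧ d ^ 2 = 1 ∧ (c * d) ^ 2 = z₀ ∧
      a * c = c * a ∧ a * d = d * a ∧ b * c = c * b ∧ b * d = d * b ∧
      R ≤ Subgroup.closure ({a, b, c, d} : Set Y) ∧
      (∀ r ∈ R, r ∉ Z → ∃ w ∈ R, r * w ≠ w * r) ∧
      (∀ r ∈ R, r ^ 2 = z₀ ∨ ∃ w ∈ R, w ^ 2 = z₀ ∧ (r * w) ^ 2 = z₀)) := by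
  classical
  -- the space
  set Z' : Subgroup R := Z.subgroupOf R with hZ'
  haveI : Z'.Normal := Subgroup.Normal.subgroupOf (inferInstance : Z.Normal) R
  have hV2 : ∀ v : R ⧸ Z', v ^ 2 = 1 := fun v => by
    obtain ⟨r, rfl⟩ := QuotientGroup.mk_surjective v
    rw [← QuotientGroup.mk_pow, QuotientGroup.eq_one_iff]
    exact hsq r r.2
  have hVcomm : ∀ a b : R ⧸ Z', a * b = b * a := by
    intro a b
    have hinv : ∀ c : R ⧸ Z', c⁻¹ = c := fun c => inv_eq_of_mul_eq_one_right (by rw [← sq, hV2])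
    calc a * b = (a * b)⁻¹ := (hinv _).symm
      _ = b * a := by rw [_root_.mul_inv_rev, hinv, hinv]
  letI : CommGroup (R ⧸ Z') := { (inferInstance : Group (R ⧸ Z')) with mul_comm := hVcomm }
  have hVc : Nat.card (R ⧸ Z') = 16 := hidx
  letI : CommGroup Z := { (inferInstance : Group Z) with mul_comm := fun a b => Subtype.ext (hcen a a.2 b (hZR b.2)) }
  have hZ2 : ∀ z : Z, z ^ 2 = 1 := fun z => Subtype.ext (hZ z z.2)
  have hsect : ∀ (H : Subgroup Y) (W : Subgroup H) [W.Normal], (∀ h : H, h ^ 2 ∈ W) → Nat.card (H ⧸ W) ≤ 16 := by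
    intro H W _ hW
    refine CentralPair.sect_bound (S := X) hr (H.comap π).subtype (Subgroup.subtype_injective _)
      ((QuotientGroup.mk' W).comp (π.subgroupComap H)) ?_ ?_
    · exact (QuotientGroup.mk'_surjective W).comp fun t => by
        obtain ⟨x, hx⟩ := hπ t
        exact ⟨⟨x, by rw [Subgroup.mem_comap, hx]; exact t.2⟩, Subtype.ext hx⟩
    · intro q
      obtain ⟨h, rfl⟩ := QuotientGroup.mk_surjective q
      rw [← QuotientGroup.mk_pow, QuotientGroup.eq_one_iff]
      exact hW h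
  have hZc : Nat.card Z ≤ 16 := by
    have h := hsect Z ⊥ (fun z => by rw [Subgroup.mem_bot, hZ2])
    rwa [Nat.card_congr QuotientGroup.quotientBot.toEquiv] at h
  -- squaring
  let q : R ⧸ Z' → Z := fun v => Quotient.liftOn' v (fun r : R => (⟨(r : Y) ^ 2, hsq r r.2⟩ : Z)) (by
    intro r s h
    rw [QuotientGroup.leftRel_apply] at h
    apply Subtype.ext
    obtain ⟨z, hz, e⟩ : ∃ z ∈ Z, (s : Y) = r * z := ⟨_, h, by simp⟩
    show (r : Y) ^ 2 = (s : Y) ^ 2
    rw [e, Commute.mul_pow (hcen z hz r r.2).symm, hZ z hz, mul_one])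
  have hqmk : ∀ r : R, (q (QuotientGroup.mk r) : Y) = (r : Y) ^ 2 := fun r => rfl
  have hmul : ∀ r s : R, ((r : Y) * s) ^ 2 = (r : Y) ^ 2 * (s : Y) ^ 2 * ((s : Y)⁻¹ * (r : Y)⁻¹ * s * r) := by
    intro r s
    have hc : ((s : Y)⁻¹ * (r : Y)⁻¹ * s * r) * (s : Y) = (s : Y) * ((s : Y)⁻¹ * (r : Y)⁻¹ * s * r) := by
      refine hcen _ ?_ s s.2
      have : ((s⁻¹ * r⁻¹ * s * r : R) : Y) ∈ Z := by
        have h1 : (QuotientGroup.mk (s⁻¹ * r⁻¹ * s * r) : R ⧸ Z') = 1 := by
          rw [QuotientGroup.mk_mul, QuotientGroup.mk_mul, QuotientGroup.mk_mul, QuotientGroup.mk_inv, QuotientGroup.mk_inv,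
            mul_comm (QuotientGroup.mk s : R ⧸ Z')⁻¹, inv_mul_cancel_right, inv_mul_cancel]
        exact (QuotientGroup.eq_one_iff (s⁻¹ * r⁻¹ * s * r : R)).mp h1
      exact this
    calc ((r : Y) * s) ^ 2 = r * (r * s * ((s : Y)⁻¹ * (r : Y)⁻¹ * s * r)) * s := by rw [sq]; group
      _ = r * r * s * (((s : Y)⁻¹ * (r : Y)⁻¹ * s * r) * s) := by group
      _ = r * r * s * (s * ((s : Y)⁻¹ * (r : Y)⁻¹ * s * r)) := by rw [hc]
      _ = _ := by rw [sq, sq]; group
  obtain ⟨B, hBd⟩ : ∃ B : R → R → Y, ∀ r s, B r s = (s : Y)⁻¹ * (r : Y)⁻¹ * s * r := ⟨_, fun r s => rfl⟩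
  have hBZ : ∀ r s, B r s ∈ Z := fun r s => by
    have h := hsq _ (mul_mem r.2 s.2)
    rw [hmul r s, ← hBd] at h
    exact (mul_mem_cancel_left (mul_mem (hsq r r.2) (hsq s s.2))).mp h
  have hBmul : ∀ r₁ r₂ s, B (r₁ * r₂) s = B r₁ s * B r₂ s := by
    intro r₁ r₂ s
    rw [hBd, Subgroup.coe_mul]
    calc (s : Y)⁻¹ * ((r₁ : Y) * r₂)⁻¹ * s * (r₁ * r₂)
        = (s : Y)⁻¹ * (r₂ : Y)⁻¹ * s * (B r₁ s * r₂) := by rw [hBd]; group
      _ = (s : Y)⁻¹ * (r₂ : Y)⁻¹ * s * (r₂ * B r₁ s) := by rw [hcen _ (hBZ r₁ s) r₂ r₂.2]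
      _ = B r₂ s * B r₁ s := by rw [hBd r₂]; group
      _ = _ := hcen _ (hBZ r₂ s) _ (hZR (hBZ r₁ s))
  have hqB : ∀ r s : R, ((q (QuotientGroup.mk r * QuotientGroup.mk s) * q (QuotientGroup.mk r) * q (QuotientGroup.mk s) : Z) : Y) =
      B r s := by
    intro r s
    have h2 : ∀ z : Z, z * z = 1 := fun z => by rw [← sq, hZ2]
    have key : q (QuotientGroup.mk r * QuotientGroup.mk s) =
        q (QuotientGroup.mk r) * q (QuotientGroup.mk s) * ⟨B r s, hBZ r s⟩ := Subtype.ext (by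
      show ((r : Y) * s) ^ 2 = (r : Y) ^ 2 * (s : Y) ^ 2 * B r s
      rw [hmul r s, ← hBd])
    rw [key]
    rw [five_mul, h2, h2, one_mul, one_mul]
  have hqbil : ∀ u v w : R ⧸ Z', q (u * v * w) * q (u * v) * q w = (q (u * w) * q u * q w) * (q (v * w) * q v * q w) := by
    intro u v w
    obtain ⟨r, rfl⟩ := QuotientGroup.mk_surjective u
    obtain ⟨s, rfl⟩ := QuotientGroup.mk_surjective v
    obtain ⟨t, rfl⟩ := QuotientGroup.mk_surjective w
    refine Subtype.ext ?_
    rw [show (QuotientGroup.mk r : R ⧸ Z') * QuotientGroup.mk s = QuotientGroup.mk (r * s) from rfl, hqB,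
      Subgroup.coe_mul, hqB, hqB, hBmul]
  have hqgen : Subgroup.closure (Set.range q) = ⊤ := by
    refine Subgroup.map_injective Z.subtype_injective ?_
    rw [MonoidHom.map_closure, ← MonoidHom.range_eq_map, Subgroup.range_subtype]
    refine le_antisymm ?_ (hgen.trans (Subgroup.closure_mono ?_))
    · rw [Subgroup.closure_le]
      rintro _ ⟨z, -, rfl⟩
      exact z.2
    · rintro g ⟨r, hr, rfl⟩
      exact ⟨q (QuotientGroup.mk ⟨r, hr⟩), ⟨_, rfl⟩, rfl⟩
  -- the actions
  have hchar : ∀ y : Y, Z'.map (MulAut.conjNormal (H := R) y).toMonoidHom = Z' := by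
    intro y
    ext r
    constructor
    · rintro ⟨s, hs, rfl⟩
      show ((MulAut.conjNormal (H := R) y s : R) : Y) ∈ Z
      rw [MulAut.conjNormal_apply]
      exact (inferInstance : Z.Normal).conj_mem _ hs y
    · intro hr
      refine ⟨MulAut.conjNormal (H := R) y⁻¹ r, ?_, ?_⟩
      · show ((MulAut.conjNormal (H := R) y⁻¹ r : R) : Y) ∈ Z
        rw [MulAut.conjNormal_apply]
        exact (inferInstance : Z.Normal).conj_mem _ hr _
      · apply Subtype.ext
        simp [MulAut.conjNormal_apply, mul_assoc]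
  let σV : Y →* MulAut (R ⧸ Z') :=
    { toFun := fun y => QuotientGroup.congr Z' Z' (MulAut.conjNormal (H := R) y) (hchar y)
      map_one' := by ext v; induction v using QuotientGroup.induction_on with | _ r => simp
      map_mul' := fun x y => by
        ext v
        induction v using QuotientGroup.induction_on with | _ r => exact congrArg QuotientGroup.mk (by rw [map_mul]; rfl) }
  let σZ : Y →* MulAut Z := MulAut.conjNormal
  have hσV : ∀ y (r : R), σV y (QuotientGroup.mk r) = QuotientGroup.mk (MulAut.conjNormal (H := R) y r) := fun y r => rfl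
  have hkV : σV.ker = R := by
    ext y
    rw [MonoidHom.mem_ker]
    constructor
    · intro h
      refine hfaith y fun r hr => ?_
      have h1 := DFunLike.congr_fun h (QuotientGroup.mk (⟨r, hr⟩ : R))
      rw [hσV] at h1
      have h2 := (QuotientGroup.eq.mp h1.symm)
      have h3 : ((MulAut.conjNormal (H := R) y ⟨r, hr⟩ : R) : Y) * r⁻¹ ∈ Z := by
        have h4 := (inferInstance : Z'.Normal).conj_mem _ h2 (⟨r, hr⟩ : R)
        rw [mul_inv_cancel_left] at h4
        exact h4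
      rwa [MulAut.conjNormal_apply] at h3
    · intro hy
      refine MulEquiv.ext fun v => ?_
      obtain ⟨r, rfl⟩ := QuotientGroup.mk_surjective v
      rw [hσV, show MulAut.conjNormal (H := R) y r = (⟨y, hy⟩ : R) * r * (⟨y, hy⟩ : R)⁻¹ from Subtype.ext (by simp),
        QuotientGroup.mk_mul, QuotientGroup.mk_mul, QuotientGroup.mk_inv, mul_comm (QuotientGroup.mk (⟨y, hy⟩ : R) : R ⧸ Z'),
        mul_inv_cancel_right]
      rfl
  have hkZ : R ≤ σZ.ker := fun y hy => by
    rw [MonoidHom.mem_ker]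
    refine MulEquiv.ext fun z => Subtype.ext ?_
    show ((MulAut.conjNormal (H := Z) y z : Z) : Y) = z
    rw [MulAut.conjNormal_apply, ← hcen z z.2 y hy, mul_inv_cancel_right]
  let ρV : alternatingGroup (Fin 5) →* MulAut (R ⧸ Z') := (QuotientGroup.lift R σV hkV.ge).comp e
  let ρZ : alternatingGroup (Fin 5) →* MulAut Z := (QuotientGroup.lift R σZ hkZ).comp e
  have hρ : Function.Injective ρV := by
    have hl : Function.Injective (QuotientGroup.lift R σV hkV.ge) := by
      rw [← MonoidHom.ker_eq_bot_iff, QuotientGroup.ker_lift, hkV, QuotientGroup.map_mk'_self]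
    exact hl.comp he
  have heq : ∀ g v, q (ρV g v) = ρZ g (q v) := by
    intro g v
    obtain ⟨y, hy⟩ := QuotientGroup.mk_surjective (e g)
    show q (QuotientGroup.lift R σV hkV.ge (e g) v) = QuotientGroup.lift R σZ hkZ (e g) (q v)
    rw [← hy, QuotientGroup.lift_mk, QuotientGroup.lift_mk]
    obtain ⟨r, rfl⟩ := QuotientGroup.mk_surjective v
    refine Subtype.ext ?_
    rw [hσV, hqmk, MulAut.conjNormal_apply]
    show (y * (r : Y) * y⁻¹) ^ 2 = ((MulAut.conjNormal (H := Z) y (q (QuotientGroup.mk r)) : Z) : Y)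
    rw [MulAut.conjNormal_apply, hqmk, conj_pow]
  obtain ⟨c, t, hc, hc1, ht, hinv⟩ := five_elements
  haveI : IsSimpleGroup (alternatingGroup (Fin 5)) := alternatingGroup.isSimpleGroup (by simp)
  rcases core card_alt_five hV2 hVc hZ2 hZc q hqbil hqgen ρV hρ ρZ heq c t hc hc1 ht hinv with
    ⟨hlin, hinj, hZ16, hnorm, hfix⟩ | ⟨hZ16, u, w, hu, hw, huw, x, hxu, hxw, hxuw⟩ | ⟨hZ2', hframe⟩
  · exfalso
    have hab : ∀ r ∈ R, ∀ s ∈ R, r * s = s * r := by
      intro r hr s hs
      have h := congrArg Subtype.val (hlin (QuotientGroup.mk ⟨r, hr⟩) (QuotientGroup.mk ⟨s, hs⟩))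
      change (r * s) ^ 2 = r ^ 2 * s ^ 2 at h
      have h' : r * (s * r) * s = r * (r * s) * s := by
        simpa [sq, mul_assoc] using h
      exact (mul_left_cancel (mul_right_cancel h')).symm
    have hqsurj : Function.Surjective q :=
      ((Nat.bijective_iff_injective_and_card q).mpr ⟨hinj, by rw [hVc, hZ16]⟩).2
    obtain ⟨y, hy⟩ := QuotientGroup.mk_surjective (e t)
    have hyy : y * y ∈ R := by
      rw [← QuotientGroup.eq_one_iff, QuotientGroup.mk_mul, hy, ← map_mul, ht, map_one]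
    have hyR : y ∉ R := by
      intro h
      have h1 : e t = e 1 := by rw [map_one, ← hy]; exact (QuotientGroup.eq_one_iff y).mpr h
      have h2 := he h1
      rw [h2, one_mul, inv_one, mul_one] at hinv
      have h3 : c * c = 1 := by nth_rw 2 [hinv]; exact mul_inv_cancel c
      exact hc1 (by
        have : c ^ 5 = (c * c) * (c * c) * c := by simp only [pow_succ, pow_zero, one_mul, mul_assoc]
        rw [hc, h3, one_mul, one_mul] at this
        exact this.symm)
    have hρVy : ∀ v, ρV t v = σV y v := fun v => by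
      show QuotientGroup.lift R σV hkV.ge (e t) v = _
      rw [← hy, QuotientGroup.lift_mk]
    have hρZy : ∀ z, ρZ t z = σZ y z := fun z => by
      show QuotientGroup.lift R σZ hkZ (e t) z = _
      rw [← hy, QuotientGroup.lift_mk]
    have hnormR : ∀ r ∈ R, y * r * y⁻¹ * r⁻¹ ∈ Z → ∃ b ∈ R, r⁻¹ * (b * (y * b * y⁻¹)) ∈ Z := by
      intro r hr h
      obtain ⟨v, hv⟩ := hnorm (QuotientGroup.mk ⟨r, hr⟩) (by
        rw [hρVy, hσV]
        refine (QuotientGroup.eq.mpr ?_).symm
        show (r : Y)⁻¹ * ((MulAut.conjNormal (H := R) y ⟨r, hr⟩ : R) : Y) ∈ Z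
        rw [MulAut.conjNormal_apply]
        have := (inferInstance : Z.Normal).conj_mem _ h r⁻¹
        simpa [mul_assoc] using this)
      obtain ⟨b, rfl⟩ := QuotientGroup.mk_surjective v
      refine ⟨b, b.2, ?_⟩
      rw [hρVy, hσV, ← QuotientGroup.mk_mul] at hv
      have := QuotientGroup.eq.mp hv
      have h' : (r : Y)⁻¹ * ((b : Y) * ((MulAut.conjNormal (H := R) y b : R) : Y)) ∈ Z := this
      rwa [MulAut.conjNormal_apply] at h'
    -- an involution above `t`
    obtain ⟨B₀, hB₀, hu0⟩ : ∃ B₀ ∈ R, y * y = B₀ * (y * B₀ * y⁻¹) := by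
      have hfixu : y * (y * y) * y⁻¹ * (y * y)⁻¹ ∈ Z := by
        rw [show y * (y * y) * y⁻¹ * (y * y)⁻¹ = 1 by group]; exact one_mem Z
      obtain ⟨b, hb, hz⟩ := hnormR _ hyy hfixu
      obtain ⟨z, hzdef⟩ : ∃ z, z = (y * y)⁻¹ * (b * (y * b * y⁻¹)) := ⟨_, rfl⟩
      rw [← hzdef] at hz
      have hzy : y * z * y⁻¹ = z := by
        have h1 : y * (y * b * y⁻¹) * y⁻¹ = b := by
          calc y * (y * b * y⁻¹) * y⁻¹ = (y * y) * b * (y * y)⁻¹ := by group
            _ = b := by rw [hab _ hyy b hb, mul_inv_cancel_right]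
        calc y * z * y⁻¹ = (y * y)⁻¹ * ((y * b * y⁻¹) * (y * (y * b * y⁻¹) * y⁻¹)) := by rw [hzdef]; group
          _ = z := by rw [h1, hab _ ((inferInstance : R.Normal).conj_mem b hb y) b hb, hzdef]
      obtain ⟨v, hv⟩ := hqsurj ⟨z, hz⟩
      have hv' : ρV t v = v := hinj (by
        rw [heq, hv, hρZy]
        apply Subtype.ext
        show ((MulAut.conjNormal (H := Z) y ⟨z, hz⟩ : Z) : Y) = z
        rw [MulAut.conjNormal_apply, hzy])
      obtain ⟨w, hw⟩ := hnorm v hv'
      obtain ⟨w', rfl⟩ := QuotientGroup.mk_surjective w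
      have hz2 : z = (w' : Y) ^ 2 * (y * (w' : Y) ^ 2 * y⁻¹) := by
        have h := congrArg Subtype.val (hlin (QuotientGroup.mk w') (ρV t (QuotientGroup.mk w')))
        rw [← hw, hv, Subgroup.coe_mul, hqmk, heq, hρZy] at h
        refine h.trans ?_
        show (w' : Y) ^ 2 * ((MulAut.conjNormal (H := Z) y (q (QuotientGroup.mk w')) : Z) : Y) = _
        rw [MulAut.conjNormal_apply, hqmk]
      have hw2 : (w' : Y) ^ 2 ∈ R := pow_mem w'.2 2
      refine ⟨b * (w' : Y) ^ 2, mul_mem hb hw2, ?_⟩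
      have hzinv : z⁻¹ = z := inv_eq_of_mul_eq_one_right (by rw [← sq]; exact hZ z hz)
      calc y * y = b * (y * b * y⁻¹) * z := by
            rw [← hzinv, hzdef, _root_.mul_inv_rev, inv_inv]
            group
        _ = b * ((y * b * y⁻¹) * (w' : Y) ^ 2) * (y * (w' : Y) ^ 2 * y⁻¹) := by rw [hz2]; group
        _ = b * ((w' : Y) ^ 2 * (y * b * y⁻¹)) * (y * (w' : Y) ^ 2 * y⁻¹) := by
            rw [hab _ ((inferInstance : R.Normal).conj_mem b hb y) _ hw2]
        _ = _ := by group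
    obtain ⟨x, hx⟩ : ∃ x, x = B₀⁻¹ * y := ⟨_, rfl⟩
    have hBy : y * B₀ * y⁻¹ ∈ R := (inferInstance : R.Normal).conj_mem B₀ hB₀ y
    have hxx : x * x = 1 := by
      calc x * x = B₀⁻¹ * (y * B₀ * y⁻¹)⁻¹ * (y * y) := by rw [hx]; group
        _ = (y * B₀ * y⁻¹ * B₀)⁻¹ * (B₀ * (y * B₀ * y⁻¹)) := by rw [hu0]; group
        _ = 1 := by rw [hab _ hBy B₀ hB₀, inv_mul_cancel]
    have hxR : x ∉ R := fun h => hyR (by
      have := mul_mem hB₀ h
      rwa [hx, mul_inv_cancel_left] at this)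
    have hxinv : x⁻¹ = x := inv_eq_of_mul_eq_one_right hxx
    have hact : ∀ r ∈ R, x * r * x⁻¹ = y * r * y⁻¹ := by
      intro r hr
      calc x * r * x⁻¹ = B₀⁻¹ * (y * r * y⁻¹) * B₀ := by rw [hx]; group
        _ = y * r * y⁻¹ := by
            rw [hab _ (inv_mem hB₀) _ ((inferInstance : R.Normal).conj_mem r hr y), inv_mul_cancel_right]
    -- the section
    let A : Subgroup Y :=
      { carrier := {r | r ∈ R ∧ x * r * x⁻¹ * r⁻¹ ∈ Z}
        one_mem' := ⟨one_mem R, by simp⟩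
        mul_mem' := by
          rintro a b ⟨ha, ha'⟩ ⟨hb, hb'⟩
          refine ⟨mul_mem ha hb, ?_⟩
          have : x * (a * b) * x⁻¹ * (a * b)⁻¹ = (x * a * x⁻¹ * a⁻¹) * (a * (x * b * x⁻¹ * b⁻¹) * a⁻¹) := by group
          rw [this]
          exact mul_mem ha' ((inferInstance : Z.Normal).conj_mem _ hb' a)
        inv_mem' := by
          rintro a ⟨ha, ha'⟩
          refine ⟨inv_mem ha, ?_⟩
          have : x * a⁻¹ * x⁻¹ * a⁻¹⁻¹ = a⁻¹ * (x * a * x⁻¹ * a⁻¹)⁻¹ * a⁻¹⁻¹ := by group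
          rw [this]
          exact (inferInstance : Z.Normal).conj_mem _ (inv_mem ha') _ }
    have hAR : A ≤ R := fun a ha => ha.1
    have hxA : ∀ a ∈ A, x * a * x⁻¹ ∈ A := by
      rintro a ⟨ha, ha'⟩
      refine ⟨(inferInstance : R.Normal).conj_mem a ha x, ?_⟩
      have : x * (x * a * x⁻¹) * x⁻¹ * (x * a * x⁻¹)⁻¹ = (x * a * x⁻¹ * a⁻¹)⁻¹ := by
        calc x * (x * a * x⁻¹) * x⁻¹ * (x * a * x⁻¹)⁻¹
            = (x * x) * a * (x * x)⁻¹ * (x * a * x⁻¹)⁻¹ := by group
          _ = _ := by rw [hxx]; group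
      rw [this]
      exact inv_mem ha'
    let H : Subgroup Y :=
      { carrier := {g | g ∈ A ∨ g * x ∈ A}
        one_mem' := Or.inl (one_mem A)
        mul_mem' := by
          rintro g h (hg | hg) (hh | hh)
          · exact Or.inl (mul_mem hg hh)
          · exact Or.inr (by rw [mul_assoc]; exact mul_mem hg hh)
          · refine Or.inr ?_
            rw [show g * h * x = (g * x) * (x * h * x⁻¹) by
              rw [hxinv, show g * x * (x * h * x) = g * (x * x) * h * x by group, hxx, mul_one]]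
            exact mul_mem hg (hxA h hh)
          · refine Or.inl ?_
            rw [show g * h = (g * x) * (x * (h * x) * x⁻¹) by
              rw [hxinv, show g * x * (x * (h * x) * x) = g * (x * x) * h * (x * x) by group, hxx, mul_one, mul_one]]
            exact mul_mem hg (hxA _ hh)
        inv_mem' := by
          rintro g (hg | hg)
          · exact Or.inl (inv_mem hg)
          · refine Or.inr ?_
            rw [show g⁻¹ * x = x * (g * x)⁻¹ * x⁻¹ by rw [hxinv]; group]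
            exact hxA _ (inv_mem hg) }
    have hAH : A ≤ H := fun a ha => Or.inl ha
    let W : Subgroup Y := Z ⊓ Subgroup.centralizer {x}
    have hWA : W ≤ A := fun z hz => ⟨hZR hz.1, by
      rw [← Subgroup.mem_centralizer_singleton_iff.mp hz.2, mul_inv_cancel_right, mul_inv_cancel]; exact one_mem Z⟩
    have hWcen : ∀ z ∈ W, ∀ g ∈ H, g * z = z * g := by
      rintro z hz g (hg | hg)
      · exact (hcen z hz.1 g (hAR hg)).symm
      · have h1 := (hcen z hz.1 _ (hAR hg)).symm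
        have h2 := Subgroup.mem_centralizer_singleton_iff.mp hz.2
        have h3 : g * (z * x) = z * (g * x) := by rw [h2, ← mul_assoc]; exact h1
        rw [← mul_assoc, ← mul_assoc] at h3
        exact mul_right_cancel h3
    haveI : (W.subgroupOf H).Normal := ⟨fun z hz g => by
      rw [Subgroup.mem_subgroupOf, Subgroup.coe_mul, Subgroup.coe_mul, Subgroup.coe_inv,
        hWcen (z : Y) hz (g : Y) g.2, mul_inv_cancel_right]
      exact hz⟩
    have hconjZ : ∀ z ∈ Z, x * z * x⁻¹ ∈ Z := fun z hz => (inferInstance : Z.Normal).conj_mem z hz x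
    have hsqA : ∀ a ∈ A, a ^ 2 ∈ W := by
      rintro a ⟨ha, ha'⟩
      refine ⟨hsq a ha, Subgroup.mem_centralizer_singleton_iff.mpr ?_⟩
      obtain ⟨z, hz⟩ : ∃ z, z = x * a * x⁻¹ * a⁻¹ := ⟨_, rfl⟩
      rw [← hz] at ha'
      have e1 : x * a ^ 2 * x⁻¹ = a ^ 2 := by
        rw [← conj_pow, show x * a * x⁻¹ = z * a by rw [hz]; group, Commute.mul_pow (hcen z ha' a ha), hZ z ha', one_mul]
      exact (mul_inv_eq_iff_eq_mul.mp e1).symm
    have hcomA : ∀ a ∈ A, x * a * x⁻¹ * a⁻¹ ∈ W := by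
      rintro a ⟨ha, ha'⟩
      refine ⟨ha', Subgroup.mem_centralizer_singleton_iff.mpr ?_⟩
      have e1 : x * (x * a * x⁻¹ * a⁻¹) * x⁻¹ = x * a * x⁻¹ * a⁻¹ := by
        calc x * (x * a * x⁻¹ * a⁻¹) * x⁻¹
            = (x * x) * a * (x * x)⁻¹ * (x * a * x⁻¹)⁻¹ := by group
          _ = (x * a * x⁻¹ * a⁻¹)⁻¹ := by rw [hxx]; group
          _ = _ := inv_eq_of_mul_eq_one_right (by rw [← sq]; exact hZ _ ha')
      exact (mul_inv_eq_iff_eq_mul.mp e1).symm
    have hW2 : ∀ h : H, h ^ 2 ∈ W.subgroupOf H := by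
      intro h
      rw [Subgroup.mem_subgroupOf, Subgroup.coe_pow]
      rcases h.2 with hh | hh
      · exact hsqA _ hh
      · have e1 : (h : Y) = ((h : Y) * x) * x := by rw [mul_assoc, hxx, mul_one]
        rw [e1]
        generalize (h : Y) * x = a at hh
        have e2 : (a * x) ^ 2 = a * (x * a * x⁻¹ * a⁻¹) * a := by
          rw [sq, hxinv, show a * (x * a * x * a⁻¹) * a = a * x * a * x by group]
          group
        rw [e2, ← hcen _ (hcomA a hh).1 a (hAR hh), mul_assoc, ← sq]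
        exact mul_mem (hcomA a hh) (hsqA a hh)
    have hb := hsect H (W.subgroupOf H) hW2
    have hWc : Nat.card W = 4 := by
      let f : {v : R ⧸ Z' // ρV t v = v} → W := fun v => ⟨(q v.1 : Y), (q v.1).2, Subgroup.mem_centralizer_singleton_iff.mpr (by
        have h := congrArg Subtype.val (heq t v.1)
        rw [v.2, hρZy] at h
        have h' : (q v.1 : Y) = y * (q v.1 : Y) * y⁻¹ := h.trans (MulAut.conjNormal_apply ..)
        rw [← hact _ (hZR (q v.1).2)] at h'
        exact mul_inv_eq_iff_eq_mul.mp h'.symm |>.symm)⟩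
      rw [← hfix]
      refine (Nat.card_eq_of_bijective f ⟨fun v v' e => Subtype.ext (hinj (Subtype.ext (congrArg Subtype.val e :))),
        fun z => ?_⟩).symm
      obtain ⟨v, hv⟩ := hqsurj ⟨z, z.2.1⟩
      refine ⟨⟨v, hinj ?_⟩, Subtype.ext (congrArg Subtype.val hv :)⟩
      rw [heq, hv, hρZy]
      apply Subtype.ext
      show ((MulAut.conjNormal (H := Z) y ⟨(z : Y), z.2.1⟩ : Z) : Y) = z
      rw [MulAut.conjNormal_apply, ← hact _ (hZR z.2.1), ← Subgroup.mem_centralizer_singleton_iff.mp z.2.2,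
        mul_inv_cancel_right]
    have hAc : Nat.card A = 64 := by
      have hZA : Z ≤ A := fun z hz => ⟨hZR hz, mul_mem (hconjZ z hz) (inv_mem hz)⟩
      let ψ : A →* R ⧸ Z' := (QuotientGroup.mk' Z').comp (Subgroup.inclusion hAR)
      have hk : ψ.ker = Z.subgroupOf A := by
        ext a
        rw [MonoidHom.mem_ker, Subgroup.mem_subgroupOf]
        show (QuotientGroup.mk (Subgroup.inclusion hAR a) : R ⧸ Z') = 1 ↔ _
        rw [QuotientGroup.eq_one_iff]
        rfl
      have hrange : ∀ v, v ∈ ψ.range ↔ ρV t v = v := by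
        intro v
        obtain ⟨r, rfl⟩ := QuotientGroup.mk_surjective v
        rw [hρVy, hσV, QuotientGroup.eq]
        show _ ↔ ((MulAut.conjNormal (H := R) y r : R) : Y)⁻¹ * r ∈ Z
        rw [MulAut.conjNormal_apply, ← hact _ r.2]
        constructor
        · rintro ⟨⟨a, ha, ha'⟩, e⟩
          have e₁ : (QuotientGroup.mk (Subgroup.inclusion hAR ⟨a, ⟨ha, ha'⟩⟩) : R ⧸ Z') = QuotientGroup.mk r := e
          rw [QuotientGroup.eq] at e₁
          have e' : (a : Y)⁻¹ * r ∈ Z := e₁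
          obtain ⟨z, hz, hr'⟩ : ∃ z ∈ Z, (r : Y) = a * z := ⟨_, e', by simp⟩
          rw [hr', show (x * (a * z) * x⁻¹)⁻¹ * (a * z) =
            (x * z * x⁻¹)⁻¹ * (a⁻¹ * (x * a * x⁻¹ * a⁻¹)⁻¹ * a⁻¹⁻¹) * z by group]
          exact mul_mem (mul_mem (inv_mem (hconjZ z hz)) ((inferInstance : Z.Normal).conj_mem _ (inv_mem ha') _)) hz
        · intro h
          refine ⟨⟨r, r.2, ?_⟩, rfl⟩
          have h' := inv_mem ((inferInstance : Z.Normal).conj_mem _ h (r : Y))
          rw [show x * (r : Y) * x⁻¹ * (r : Y)⁻¹ = ((r : Y) * ((x * (r : Y) * x⁻¹)⁻¹ * r) * (r : Y)⁻¹)⁻¹ by group]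
          exact h'
      have h1 := ψ.ker.card_mul_index
      rw [Subgroup.index_ker, hk, Nat.card_congr (Subgroup.subgroupOfEquivOfLe hZA).toEquiv, hZ16,
        show Nat.card ψ.range = 4 by rw [← hfix]; exact Nat.card_congr (Equiv.subtypeEquivRight hrange)] at h1
      omega
    have hHc : 2 * 64 ≤ Nat.card H := by
      rw [← hAc, mul_comm, ← show Nat.card (A × Fin 2) = Nat.card A * 2 by simp]
      refine Nat.card_le_card_of_injective
        (fun p : A × Fin 2 => if p.2 = 0 then (⟨p.1, hAH p.1.2⟩ : H) else ⟨(p.1 : Y) * x, Or.inr (by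
          rw [mul_assoc, hxx, mul_one]; exact p.1.2)⟩) ?_
      rintro ⟨a, i⟩ ⟨b, j⟩ e
      have hij : i = j := by
        fin_cases i <;> fin_cases j <;> simp at e ⊢
        · exact hxR (by rw [show x = (b : Y)⁻¹ * a by rw [e]; group]; exact mul_mem (inv_mem (hAR b.2)) (hAR a.2))
        · exact hxR (by rw [show x = (a : Y)⁻¹ * b by rw [← e]; group]; exact mul_mem (inv_mem (hAR a.2)) (hAR b.2))
      subst hij
      fin_cases i <;> simp at e <;> simp [e]
    have hcard := Subgroup.card_eq_card_quotient_mul_card_subgroup (W.subgroupOf H)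
    rw [Nat.card_congr (Subgroup.subgroupOfEquivOfLe (hWA.trans hAH)).toEquiv, hWc] at hcard
    omega
  · exfalso
    obtain ⟨P, hP⟩ : ∃ P : Subgroup (R ⧸ Z'), P = Subgroup.closure {u, w} := ⟨_, rfl⟩
    have hv2 : ∀ v : R ⧸ Z', v * v = 1 := fun v => by rw [← sq, hV2]
    have hPmem : ∀ v ∈ P, v = 1 ∨ v = u ∨ v = w ∨ v = u * w := by
      intro v hv
      rw [hP] at hv
      refine Subgroup.closure_induction (fun g hg => ?_) (Or.inl rfl) (fun a b _ _ ha hb => ?_) (fun a _ ha => ?_) hv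
      · rcases hg with rfl | rfl
        · exact Or.inr (Or.inl rfl)
        · exact Or.inr (Or.inr (Or.inl rfl))
      · have e1 : u * (u * w) = w := by rw [← mul_assoc, hv2, one_mul]
        have e2 : u * w * u = w := by rw [mul_comm, e1]
        have e3 : u * w * w = u := by rw [mul_assoc, hv2, mul_one]
        have e4 : w * (u * w) = u := by rw [mul_comm, e3]
        rcases ha with h | h | h | h <;> rcases hb with h' | h' | h' | h' <;> rw [h, h'] <;>
          simp only [one_mul, mul_one, hv2, e1, e2, e3, e4, true_or, or_true, eq_self, mul_comm w u]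
      · rwa [inv_eq_of_mul_eq_one_right (hv2 a)]
    let A : Subgroup Y := (P.comap (QuotientGroup.mk' Z')).map R.subtype
    have hAc : Nat.card A = 16 * Nat.card P := by
      rw [Subgroup.card_map_of_injective R.subtype_injective]
      let ψ := (QuotientGroup.mk' Z').subgroupComap P
      have hψ : Function.Surjective ψ := fun p => by
        obtain ⟨r, hr⟩ := QuotientGroup.mk'_surjective Z' p
        exact ⟨⟨r, by rw [Subgroup.mem_comap, hr]; exact p.2⟩, Subtype.ext hr⟩
      have h1 := ψ.ker.card_mul_index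
      rw [Subgroup.index_ker, MonoidHom.range_eq_top.mpr hψ, Subgroup.card_top] at h1
      have h2 : ψ.ker = Z'.subgroupOf (P.comap (QuotientGroup.mk' Z')) := by
        ext r
        rw [MonoidHom.mem_ker, Subgroup.mem_subgroupOf, ← QuotientGroup.eq_one_iff]
        exact ⟨fun h => congrArg Subtype.val h, fun h => Subtype.ext h⟩
      have hle : Z' ≤ P.comap (QuotientGroup.mk' Z') := fun r hr => by
        rw [Subgroup.mem_comap, QuotientGroup.mk'_apply, (QuotientGroup.eq_one_iff r).mpr hr]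
        exact one_mem P
      rw [h2, Nat.card_congr (Subgroup.subgroupOfEquivOfLe hle).toEquiv,
        Nat.card_congr (Subgroup.subgroupOfEquivOfLe hZR).toEquiv, hZ16] at h1
      exact h1.symm
    have hPc : 4 ≤ Nat.card P := by
      have hmemu : u ∈ P := hP ▸ Subgroup.subset_closure (Or.inl rfl)
      have hmemw : w ∈ P := hP ▸ Subgroup.subset_closure (Or.inr rfl)
      have huw1 : u * w ≠ 1 := fun h => huw (eq_of_mul_eq_one_two hV2 h)
      refine le_trans (le_of_eq (Nat.card_fin 4).symm) (Nat.card_le_card_of_injective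
        (![(⟨1, one_mem P⟩ : P), ⟨u, hmemu⟩, ⟨w, hmemw⟩, ⟨u * w, mul_mem hmemu hmemw⟩]) ?_)
      intro i j e
      fin_cases i <;> fin_cases j <;> first
        | rfl
        | (exfalso; revert e
           simp [Subtype.ext_iff, hu, hw, huw, huw1, hu.symm, hw.symm, huw.symm, huw1.symm])
    obtain ⟨W, hW⟩ : ∃ W : Subgroup Y, W = Subgroup.zpowers (x : Y) := ⟨_, rfl⟩
    have hWA : W ≤ A := by
      rw [hW, Subgroup.zpowers_le]
      exact ⟨⟨x, hZR x.2⟩, by
        rw [SetLike.mem_coe, Subgroup.mem_comap]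
        rw [QuotientGroup.mk'_apply, (QuotientGroup.eq_one_iff (⟨(x : Y), hZR x.2⟩ : R)).mpr x.2]
        exact one_mem P, rfl⟩
    have hWZ : W ≤ Z := by rw [hW, Subgroup.zpowers_le]; exact x.2
    haveI : (W.subgroupOf A).Normal := ⟨fun z hz g => by
      obtain ⟨r, -, hr⟩ := g.2
      rw [Subgroup.mem_subgroupOf, Subgroup.coe_mul, Subgroup.coe_mul, Subgroup.coe_inv,
        ← hcen (z : Y) (hWZ hz) (g : Y) (hr ▸ r.2), mul_inv_cancel_right]
      exact hz⟩
    have hb := hsect A (W.subgroupOf A) fun h => by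
      obtain ⟨⟨r, hrR⟩, hr, e⟩ := Subgroup.mem_map.mp h.2
      rw [Subgroup.mem_subgroupOf, Subgroup.coe_pow, ← e]
      show (r : Y) ^ 2 ∈ W
      rw [← hqmk ⟨r, hrR⟩]
      have hxW : (x : Y) ∈ W := hW ▸ Subgroup.mem_zpowers _
      rcases hPmem _ hr with h' | h' | h' | h'
      · rw [QuotientGroup.mk'_apply] at h'
        rw [show q (QuotientGroup.mk (⟨r, hrR⟩ : R)) = 1 from Subtype.ext (by
          rw [h', show (1 : R ⧸ Z') = QuotientGroup.mk 1 from rfl, hqmk]; simp)]
        exact one_mem W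
      all_goals
        rw [QuotientGroup.mk'_apply] at h'
        rw [h']
      · rcases hxu with h | h <;> rw [h]
        exacts [one_mem W, hxW]
      · rcases hxw with h | h <;> rw [h]
        exacts [one_mem W, hxW]
      · rcases hxuw with h | h <;> rw [h]
        exacts [one_mem W, hxW]
    have hcard := Subgroup.card_eq_card_quotient_mul_card_subgroup (W.subgroupOf A)
    rw [Nat.card_congr (Subgroup.subgroupOfEquivOfLe hWA).toEquiv, hAc] at hcard
    have hWc : Nat.card W ≤ 2 := by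
      rw [hW, Nat.card_zpowers]
      exact orderOf_le_of_pow_eq_one (by norm_num) (hZ x x.2)
    nlinarith [Nat.mul_le_mul hb hWc]
  · refine ⟨hZ2', fun hne => ?_⟩
    obtain ⟨z₀, hz₀, hz1⟩ := (Subgroup.ne_bot_iff_exists_ne_one.mp hne) |> fun ⟨z, hz⟩ =>
      (⟨(z : Y), z.2, fun h => hz (Subtype.ext h)⟩ : ∃ z₀, z₀ ∈ Z ∧ z₀ ≠ 1)
    obtain ⟨a, b, c', d, h1, h2, h3, h4, h5, h6, h7, h8, h9, h10, hspan, hnd, htwo⟩ :=
      hframe ⟨z₀, hz₀⟩ (fun h => hz1 (congrArg Subtype.val h))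
    obtain ⟨a, rfl⟩ := QuotientGroup.mk_surjective a
    obtain ⟨b, rfl⟩ := QuotientGroup.mk_surjective b
    obtain ⟨c', rfl⟩ := QuotientGroup.mk_surjective c'
    obtain ⟨d, rfl⟩ := QuotientGroup.mk_surjective d
    rw [← QuotientGroup.mk_mul] at h3 h6 h7 h8 h9 h10
    have hval : ∀ (r : R) (z : Z), q (QuotientGroup.mk r) = z → (r : Y) ^ 2 = z := fun r z h => congrArg Subtype.val h
    have hcomm : ∀ r s : R, q (QuotientGroup.mk (r * s)) = q (QuotientGroup.mk r) → q (QuotientGroup.mk s) = 1 →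
        (r : Y) * s = s * r := by
      intro r s hrs hs
      have h := hqB r s
      rw [← QuotientGroup.mk_mul, hrs, hs, mul_one, ← sq, hZ2, hBd] at h
      have h' : (1 : Y) = (s : Y)⁻¹ * (r : Y)⁻¹ * s * r := h
      calc (r : Y) * s = r * s * ((s : Y)⁻¹ * (r : Y)⁻¹ * s * r) := by rw [← h', mul_one]
        _ = s * r := by group
    have hz₀gen : z₀ ∈ Subgroup.closure ({(a : Y), (b : Y), (c' : Y), (d : Y)} : Set Y) := by
      have := hval a _ h1
      rw [show z₀ = (a : Y) ^ 2 from this.symm]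
      exact pow_mem (Subgroup.subset_closure (Set.mem_insert _ _)) 2
    refine ⟨z₀, hz₀, hz1, a, a.2, b, b.2, c', c'.2, d, d.2, hval a _ h1, hval b _ h2, hval (a * b) _ h3,
      hval c' _ h4, hval d _ h5, hval (c' * d) _ h6, hcomm _ _ h7 h4, hcomm _ _ h8 h5, hcomm _ _ h9 h4, hcomm _ _ h10 h5,
      ?_, ?_, ?_⟩
    · intro r hr
      have hv := hspan (QuotientGroup.mk (⟨r, hr⟩ : R))
      rw [show ({QuotientGroup.mk a, QuotientGroup.mk b, QuotientGroup.mk c', QuotientGroup.mk d} : Set (R ⧸ Z')) =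
        QuotientGroup.mk' Z' '' {a, b, c', d} by simp [Set.image_insert_eq], ← MonoidHom.map_closure] at hv
      obtain ⟨s, hs, e⟩ := hv
      have hs' : (s : Y) ∈ Subgroup.closure ({(a : Y), (b : Y), (c' : Y), (d : Y)} : Set Y) := by
        have := Subgroup.mem_map_of_mem R.subtype hs
        rwa [MonoidHom.map_closure, Set.image_insert_eq, Set.image_insert_eq, Set.image_insert_eq,
          Set.image_singleton] at this
      have e₁ : (QuotientGroup.mk s : R ⧸ Z') = QuotientGroup.mk ⟨r, hr⟩ := e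
      rw [QuotientGroup.eq] at e₁
      have hz : (s : Y)⁻¹ * r ∈ Z := e₁
      have hcl : Z ≤ Subgroup.closure ({(a : Y), (b : Y), (c' : Y), (d : Y)} : Set Y) := by
        intro z hz
        have hle := hZ2'
        by_contra hzn
        have hz1' : z ≠ 1 := fun h => hzn (h ▸ one_mem _)
        have : 3 ≤ Nat.card Z := by
          refine le_trans (le_of_eq (Nat.card_fin 3).symm) (Nat.card_le_card_of_injective
            (![(1 : Z), ⟨z, hz⟩, ⟨z₀, hz₀⟩]) ?_)
          intro i j e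
          have hzz : z ≠ z₀ := fun h => hzn (h ▸ hz₀gen)
          fin_cases i <;> fin_cases j <;> first
            | rfl
            | (exfalso; revert e
               simp [Subtype.ext_iff, hzz, hz1', hz1, hzz.symm, hz1'.symm, hz1.symm])
        omega
      rw [show r = (s : Y) * ((s : Y)⁻¹ * r) by group]
      exact mul_mem hs' (hcl hz)
    · intro r hr hrZ
      obtain ⟨w, hw⟩ := hnd (QuotientGroup.mk (⟨r, hr⟩ : R)) (fun h => hrZ ((QuotientGroup.eq_one_iff (⟨r, hr⟩ : R)).mp h))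
      obtain ⟨w, rfl⟩ := QuotientGroup.mk_surjective w
      refine ⟨w, w.2, fun h => hz1 ?_⟩
      have h' := hqB ⟨r, hr⟩ w
      rw [hw, hBd] at h'
      show z₀ = 1
      calc z₀ = (w : Y)⁻¹ * r⁻¹ * (w * r) := by rw [← mul_assoc]; exact h'
        _ = 1 := by rw [← h]; group
    · intro r hr
      rcases htwo (QuotientGroup.mk (⟨r, hr⟩ : R)) with h | ⟨w, hw1, hw2⟩
      · exact Or.inl (hval ⟨r, hr⟩ _ h)
      · obtain ⟨w, rfl⟩ := QuotientGroup.mk_surjective w
        rw [← QuotientGroup.mk_mul] at hw2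
        exact Or.inr ⟨w, w.2, hval w _ hw1, hval (⟨r, hr⟩ * w) _ hw2⟩

end CfsgLib.SectFour
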