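/-
Nonsolvable subgroups of A8 with trivial 2-core.
-/
import Cfsg.Agent.Lib.SmallSimple.GL4Subgroups
import Cfsg.Agent.Lib.Basic
import Cfsg.Agent.Lib.ZJ.Complement
import Cfsg.Agent.Lib.SmallSimple.RadicalQuotient

set_option autoImplicit false
set_option linter.style.haveILetI false
set_option maxRecDepth 4000

namespace CfsgLib.SectFour

open Equiv Cfsg CfsgLib.EightSubgroups

theorem exists_pCore_ne_bot {K : Type*} [Group K] [Finite K] (h : ¬ RadFree K) :
    ∃ p : ℕ, p.Prime ∧ p ∣ Nat.card K ∧ pCore p K ≠ ⊥ := by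
  classical
  simp only [RadFree, not_forall] at h
  obtain ⟨N, hN, hs, hne⟩ := h
  haveI := hN
  obtain ⟨n, hn⟩ := hs
  have hex : ∃ n, derivedSeries ↥N n = ⊥ := ⟨n, hn⟩
  have hpos : Nat.find hex ≠ 0 := by
    intro h0
    have hh := Nat.find_spec hex
    rw [h0, derivedSeries_zero] at hh
    haveI : Nontrivial ↥N := (Subgroup.nontrivial_iff_ne_bot N).mpr hne
    exact (top_ne_bot : (⊤ : Subgroup ↥N) ≠ ⊥) hh
  obtain ⟨m, hm⟩ := Nat.exists_eq_succ_of_ne_zero hpos
  set A := derivedSeries ↥N m with hA
  have hA1 : A ≠ ⊥ := Nat.find_min hex (by omega)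
  have hA2 : ⁅A, A⁆ = ⊥ := by
    have := Nat.find_spec hex
    rwa [hm, derivedSeries_succ] at this
  haveI : A.Normal := derivedSeries_normal _ _
  haveI : A.Characteristic := derivedSeries_characteristic _ _
  have hcomm : ∀ x y : A, x * y = y * x := fun x y => by
    have h1 := Subgroup.commutator_eq_bot_iff_le_centralizer.mp hA2 x.2
    exact Subtype.ext (Subgroup.mem_centralizer_iff.mp h1 y y.2).symm
  set p := (Nat.card A).minFac with hpdef
  have hA0 : Nat.card A ≠ 1 := fun e => hA1 (Subgroup.card_eq_one.mp e)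
  have hp : p.Prime := Nat.minFac_prime hA0
  haveI : Fact p.Prime := ⟨hp⟩
  obtain ⟨P⟩ : Nonempty (Sylow p A) := inferInstance
  have hPn : (P : Subgroup A).Normal := ⟨fun x hx g => by rwa [hcomm g x, mul_inv_cancel_right]⟩
  haveI := Sylow.characteristic_of_normal P hPn
  haveI : ((P : Subgroup A).map A.subtype).Normal := ConjAct.normal_of_characteristic_of_normal
  haveI : ((P : Subgroup A).map A.subtype).Characteristic :=
    Subgroup.characteristic_iff_map_eq.mpr fun φ => by
      have hAe : A.map φ.toMonoidHom = A := Subgroup.characteristic_iff_map_eq.mp inferInstance φ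
      let ψ : A ≃* A := (φ.subgroupMap A).trans (MulEquiv.subgroupCongr hAe)
      have hP := Subgroup.characteristic_iff_map_eq.mp (inferInstance : (P : Subgroup A).Characteristic) ψ
      conv_rhs => rw [← hP]
      rw [Subgroup.map_map, Subgroup.map_map]
      rfl
  haveI : (((P : Subgroup A).map A.subtype).map N.subtype).Normal :=
    ConjAct.normal_of_characteristic_of_normal
  refine ⟨p, hp, ?_, fun hb => ?_⟩
  · exact ((Nat.minFac_dvd _).trans A.card_subgroup_dvd_card).trans N.card_subgroup_dvd_card
  have hle : ((P : Subgroup A).map A.subtype).map N.subtype ≤ pCore p K :=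
    CfsgLib.le_pCore ((P.isPGroup'.map _).map _)
  rw [hb, le_bot_iff, Subgroup.map_eq_bot_iff_of_injective _ N.subtype_injective,
    Subgroup.map_eq_bot_iff_of_injective _ A.subtype_injective] at hle
  have := P.dvd_card_of_dvd_card (Nat.minFac_dvd _)
  rw [hle, Subgroup.card_bot] at this
  exact hp.not_dvd_one this

/-- Centralizer orders of elements of order five, seven, or three in `Perm (Fin 8)`. -/
theorem cent_card {σ : Perm (Fin 8)} {p : ℕ} (hp : p.Prime) (ho : orderOf σ = p) :
    (p = 5 → Nat.card (Subgroup.centralizer ({σ} : Set (Perm (Fin 8)))) = 30) ∧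
    (p = 7 → Nat.card (Subgroup.centralizer ({σ} : Set (Perm (Fin 8)))) = 7) ∧
    (p = 3 → σ.support.card = 3 ∨ Nat.card (Subgroup.centralizer ({σ} : Set (Perm (Fin 8)))) = 36) := by
  obtain ⟨n, hn⟩ := Perm.cycleType_prime_order (σ := σ) (ho ▸ hp)
  rw [ho] at hn
  have hsum := σ.sum_cycleType
  rw [hn, Multiset.sum_replicate, smul_eq_mul] at hsum
  have hle : σ.support.card ≤ 8 := by simpa using σ.support.card_le_univ
  refine ⟨?_, ?_, ?_⟩ <;> rintro rfl
  · have : n = 0 := by omega
    subst this
    rw [Perm.nat_card_centralizer, hn]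
    decide +kernel
  · have : n = 0 := by omega
    subst this
    rw [Perm.nat_card_centralizer, hn]
    decide +kernel
  · rcases Nat.eq_zero_or_pos n with h0 | h0
    · subst h0; left; omega
    · right
      have : n = 1 := by omega
      subst this
      rw [Perm.nat_card_centralizer, hn]
      decide +kernel

theorem isSolvable_of_normal_abelianAut {K : Type*} [Group K] [Finite K] (N : Subgroup K) [N.Normal]
    (hAut : Group.IsSolvable (MulAut ↥N)) (hC : Group.IsSolvable ↥(Subgroup.centralizer (N : Set K))) :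
    Group.IsSolvable K := by
  haveI := hAut
  let φ : K →* MulAut ↥N := MulAut.conjNormal
  haveI : Group.IsSolvable φ.ker := by
    have hk : φ.ker ≤ Subgroup.centralizer (N : Set K) := fun x hx => by
      refine Subgroup.mem_centralizer_iff.mpr fun y hy => ?_
      have := congrArg Subtype.val (DFunLike.congr_fun (MonoidHom.mem_ker.mp hx) (⟨y, hy⟩ : N))
      rw [MulAut.conjNormal_apply] at this
      exact (mul_inv_eq_iff_eq_mul.mp this).symm
    haveI := hC
    exact Group.isSolvable_of_isSolvable_injective (f := Subgroup.inclusion hk) (Subgroup.inclusion_injective hk)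
  exact Group.isSolvable_of_ker_le_range φ.ker.subtype φ (by simp)

theorem isSolvable_mulAut_prime {N : Type*} [Group N] [Finite N] (h : (Nat.card N).Prime) :
    Group.IsSolvable (MulAut N) := by
  haveI : Fact (Nat.card N).Prime := ⟨h⟩
  haveI : IsCyclic N := isCyclic_of_prime_card rfl
  letI : CommGroup N := IsCyclic.commGroup
  haveI hc := (IsCyclic.mulAutMulEquiv N).symm
  exact Group.isSolvable_of_comm fun a b => (IsCyclic.mulAutMulEquiv N).injective (by rw [map_mul, map_mul, mul_comm])

theorem isSolvable_mulAut_nine {N : Type*} [Group N] [Finite N] (h : Nat.card N = 9) :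
    Group.IsSolvable (MulAut N) := by
  haveI : Fact (Nat.Prime 3) := ⟨Nat.prime_three⟩
  letI : CommGroup N := IsPGroup.commGroupOfCardEqPrimeSq (p := 3) (by rw [h]; norm_num)
  classical
  by_cases hc : IsCyclic N
  · exact Group.isSolvable_of_comm fun a b => (IsCyclic.mulAutMulEquiv N).injective (by rw [map_mul, map_mul, mul_comm])
  · have he : ∀ x : N, x ^ 3 = 1 := fun x => by
      have hd : orderOf x ∣ 3 ^ 2 := by
        have := orderOf_dvd_natCard x
        rw [h] at this
        simpa using this
      obtain ⟨j, hj2, hj⟩ := (Nat.dvd_prime_pow Nat.prime_three).mp hd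
      have hj1 : j ≤ 1 := by
        by_contra hlt
        exact hc (isCyclic_of_orderOf_eq_card x (by
          rw [hj, h, show j = 2 by omega]; norm_num))
      exact orderOf_dvd_iff_pow_eq_one.mp (hj ▸ (pow_dvd_pow 3 hj1).trans (by norm_num))
    letI : Module (ZMod 3) (Additive N) := AddCommGroup.zmodModule fun x => he x
    have hfr : Module.finrank (ZMod 3) (Additive N) = 2 := by
      have := Module.natCard_eq_pow_finrank (K := ZMod 3) (V := Additive N)
      rw [show Nat.card (Additive N) = Nat.card N from rfl, h, Nat.card_zmod] at this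
      exact (Nat.pow_right_injective (by norm_num) (this.symm.trans (by norm_num : (9 : ℕ) = 3 ^ 2)))
    let b := Module.finBasisOfFinrankEq (ZMod 3) (Additive N) hfr
    let f : MulAut N →* GL (Fin 2) (ZMod 3) :=
      (Units.mapEquiv (LinearMap.toMatrixAlgEquiv b).toMulEquiv).toMonoidHom.comp
      { toFun := fun σ => (LinearMap.GeneralLinearGroup.generalLinearEquiv (ZMod 3) (Additive N)).symm
          (LinearEquiv.ofBijective (AddMonoidHom.toZModLinearMap 3 (MonoidHom.toAdditive σ.toMonoidHom))
            σ.bijective)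
        map_one' := Units.ext (LinearMap.ext fun w => rfl)
        map_mul' := fun σ τ => Units.ext (LinearMap.ext fun w => rfl) }
    have hf : Function.Injective f := by
      refine (Units.mapEquiv (LinearMap.toMatrixAlgEquiv b).toMulEquiv).injective.comp ?_
      intro σ τ e
      ext x
      exact congrArg (fun u : (Module.End (ZMod 3) (Additive N))ˣ => Additive.toMul (u.1 (Additive.ofMul x))) e
    haveI : Group.IsSolvable (GL (Fin 2) (ZMod 3)) :=
      isSolvable_two 4 1 Nat.prime_two Nat.prime_three (by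
        rw [Matrix.card_GL_field]; simp [Fin.prod_univ_two])
    exact Group.isSolvable_of_isSolvable_injective hf

/-- A nonsolvable subgroup of `S5` contains `A5`. -/
theorem alt_le_of_nonsolvable {α : Type*} [Fintype α] [DecidableEq α] (hm : Fintype.card α = 5)
    {R : Subgroup (Perm α)} (hR : ¬ Group.IsSolvable R) : alternatingGroup α ≤ R := by
  have hns := nonsolvable_inf_alt hR
  have hA := card_alt (α := α) 5 hm (by norm_num)
  rw [show Nat.factorial 5 = 120 from rfl] at hA
  have hd : Nat.card ↥(R ⊓ alternatingGroup α) ∣ 60 := by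
    have := Subgroup.card_dvd_of_le (inf_le_right : R ⊓ alternatingGroup α ≤ _)
    rwa [show Nat.card (alternatingGroup α) = 60 by omega] at this
  have key : ∀ d ∈ Nat.divisors 60, d = 60 ∨ (Squarefree d) ∨
      (∃ a < 3, ∃ b < 2, d = 2 ^ a * 3 ^ b) ∨ d = 20 := by decide +kernel
  rcases key _ (Nat.mem_divisors.mpr ⟨hd, by norm_num⟩) with h | h | ⟨a, -, b, -, h⟩ | h
  · have h' := Subgroup.eq_of_le_of_card_ge (inf_le_right : R ⊓ alternatingGroup α ≤ _) (by omega)
    exact h' ▸ inf_le_left
  · exact absurd (isSolvable_of_squarefree h) hns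
  · exact absurd (isSolvable_two a b Nat.prime_two Nat.prime_three h) hns
  · exact absurd (isSolvable_two 2 1 Nat.prime_two (by norm_num : Nat.Prime 5) (by rw [h]; norm_num)) hns

theorem pCore_of_alt {α : Type*} [Fintype α] [DecidableEq α] (hm : Fintype.card α = 5)
    {R : Subgroup (Perm α)} (hle : alternatingGroup α ≤ R) : pCore 3 R = ⊥ := by
  haveI := alternatingGroup.isSimpleGroup (α := α) (by rw [Nat.card_eq_fintype_card, hm])
  haveI : Fact (Nat.Prime 3) := ⟨Nat.prime_three⟩
  set M := pCore 3 R
  have hM : IsPGroup 3 M := CfsgLib.isPGroup_pCore 3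
  have hA := card_alt (α := α) 5 hm (by norm_num)
  rw [show Nat.factorial 5 = 120 from rfl] at hA
  let i : alternatingGroup α →* R := Subgroup.inclusion hle
  haveI : (M.comap i).Normal := Subgroup.Normal.comap inferInstance _
  rcases Subgroup.Normal.eq_bot_or_eq_top (inferInstance : (M.comap i).Normal) with h | h
  · let φ : M →* ℤˣ := (Perm.sign.comp R.subtype).comp M.subtype
    have hφ : ∀ x : M, φ x = 1 := by
      intro x
      obtain ⟨k, hk⟩ := hM x
      have h1 : φ x ^ 3 ^ k = 1 := by rw [← map_pow, hk, map_one]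
      rcases Int.units_eq_one_or (φ x) with e | e
      · exact e
      · rw [e, Odd.neg_one_pow (Odd.pow (by decide))] at h1
        exact absurd h1 (by decide)
    rw [eq_bot_iff]
    intro x hx
    have hxA : (x : Perm α) ∈ alternatingGroup α := Equiv.Perm.mem_alternatingGroup.mpr (hφ ⟨x, hx⟩)
    have : (⟨(x : Perm α), hxA⟩ : alternatingGroup α) ∈ M.comap i := hx
    rw [h, Subgroup.mem_bot] at this
    exact Subgroup.mem_bot.mpr (Subtype.ext (congrArg Subtype.val this :))
  · exfalso
    obtain ⟨j, hj⟩ := (IsPGroup.iff_card.mp hM)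
    have h1 : Nat.card (alternatingGroup α) ∣ Nat.card M := by
      have h2 : (⊤ : Subgroup (alternatingGroup α)).map i ≤ M := by rw [← h]; exact Subgroup.map_comap_le _ _
      have h3 := Subgroup.card_dvd_of_le h2
      rwa [Subgroup.card_map_of_injective (Subgroup.inclusion_injective hle), Subgroup.card_top] at h3
    have h5 : 5 ∣ 3 ^ j := hj ▸ (Dvd.intro_left 12 (by omega : 12 * 5 = Nat.card (alternatingGroup α))).trans h1
    exact absurd ((Nat.prime_five).dvd_of_dvd_pow h5) (by norm_num)

/-- The shape of a nonsolvable subgroup of `A8` with trivial 2-core that is not radical-free. -/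
theorem shape_of_not_radFree {K : Subgroup (Perm (Fin 8))} (heven : K ≤ alternatingGroup (Fin 8))
    (hns : ¬ Group.IsSolvable K) (h2 : pCore 2 K = ⊥) (hr : ¬ RadFree K) :
    Nat.card (pCore 3 K) = 3 ∧ (Nonempty (K ⧸ pCore 3 K ≃* alternatingGroup (Fin 5)) ∨
      Nonempty (K ⧸ pCore 3 K ≃* Perm (Fin 5))) := by
  classical
  have hdvd : Nat.card K ∣ 20160 := by rw [← card_A8]; exact Subgroup.card_dvd_of_le heven
  obtain ⟨p, hp, hpK, hpN⟩ := exists_pCore_ne_bot hr
  have hp2 : p ≠ 2 := fun e => hpN (e ▸ h2)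
  haveI : Fact p.Prime := ⟨hp⟩
  set N := pCore p K with hNdef
  obtain ⟨j, hj⟩ := IsPGroup.iff_card.mp (CfsgLib.isPGroup_pCore (G := K) p)
  have hj0 : j ≠ 0 := fun h0 => hpN (Subgroup.card_eq_one.mp (by rw [hj, h0, pow_zero]))
  have hNdvd : Nat.card N ∣ 20160 := N.card_subgroup_dvd_card.trans hdvd
  have hp357 : (p = 3 ∧ j ≤ 2) ∨ (p = 5 ∧ j ≤ 1) ∨ (p = 7 ∧ j ≤ 1) := by
    have hmem : p ∈ Nat.divisors 20160 := Nat.mem_divisors.mpr ⟨hpK.trans hdvd, by norm_num⟩
    have key : ∀ d ∈ Nat.divisors 20160, d.Prime → d = 2 ∨ d = 3 ∨ d = 5 ∨ d = 7 := by decide +kernel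
    rw [hj] at hNdvd
    rcases key _ hmem hp with e | e | e | e
    · exact absurd e hp2
    all_goals subst e
    · exact Or.inl ⟨rfl, by
        by_contra hlt
        exact absurd ((pow_dvd_pow 3 (by omega : 3 ≤ j)).trans hNdvd) (by norm_num)⟩
    · exact Or.inr (Or.inl ⟨rfl, by
        by_contra hlt
        exact absurd ((pow_dvd_pow 5 (by omega : 2 ≤ j)).trans hNdvd) (by norm_num)⟩)
    · exact Or.inr (Or.inr ⟨rfl, by
        by_contra hlt
        exact absurd ((pow_dvd_pow 7 (by omega : 2 ≤ j)).trans hNdvd) (by norm_num)⟩)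
  set C := Subgroup.centralizer (N : Set K)
  have hCns : ¬ Group.IsSolvable C := by
    intro hC
    refine hns (isSolvable_of_normal_abelianAut N ?_ hC)
    rcases hp357 with ⟨rfl, h⟩ | ⟨rfl, h⟩ | ⟨rfl, h⟩
    · rcases (show j = 1 ∨ j = 2 by omega) with rfl | rfl
      · exact isSolvable_mulAut_prime (by rw [hj]; norm_num)
      · exact isSolvable_mulAut_nine (by rw [hj]; norm_num)
    all_goals
      have : j = 1 := by omega
      subst this
      exact isSolvable_mulAut_prime (by rw [hj]; norm_num)
  obtain ⟨q, hq, hqC⟩ : ∃ q, (q = 7 ∨ q = 5) ∧ q ∣ Nat.card C := by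
    rcases dvd_seven_or_five (C.card_subgroup_dvd_card.trans hdvd) hCns with h | h
    · exact ⟨7, Or.inl rfl, h⟩
    · exact ⟨5, Or.inr rfl, h⟩
  haveI : Fact q.Prime := ⟨by rcases hq with rfl | rfl <;> norm_num⟩
  obtain ⟨z, hz⟩ := exists_prime_orderOf_dvd_card' q hqC
  set ζ : Perm (Fin 8) := ((z : K) : Perm (Fin 8))
  have hζ : orderOf ζ = q := by rw [Subgroup.orderOf_coe, Subgroup.orderOf_coe, hz]
  have hζc := cent_card (σ := ζ) Fact.out hζ
  have hNle : N.map K.subtype ≤ Subgroup.centralizer ({ζ} : Set (Perm (Fin 8))) := by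
    rintro _ ⟨n, hn, rfl⟩
    exact Subgroup.mem_centralizer_singleton_iff.mpr
      (congrArg Subtype.val (Subgroup.mem_centralizer_iff.mp z.2 n hn))
  have hNc := Subgroup.card_dvd_of_le hNle
  rw [Subgroup.card_map_of_injective K.subtype_injective, hj] at hNc
  have hNle2 : (C.map K.subtype) ≤ K := Subgroup.map_subtype_le C
  obtain ⟨x, hx⟩ := exists_prime_orderOf_dvd_card' (G := N) p (hj ▸ dvd_pow_self p hj0)
  set ξ : Perm (Fin 8) := ((x : K) : Perm (Fin 8))
  have hξ : orderOf ξ = p := by rw [Subgroup.orderOf_coe, Subgroup.orderOf_coe, hx]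
  have hξc := cent_card hp hξ
  have hCξ : C.map K.subtype ≤ Subgroup.centralizer ({ξ} : Set (Perm (Fin 8))) := by
    rintro _ ⟨c, hc, rfl⟩
    exact Subgroup.mem_centralizer_singleton_iff.mpr
      (congrArg Subtype.val (Subgroup.mem_centralizer_iff.mp hc x x.2)).symm
  have hCd := Subgroup.card_dvd_of_le hCξ
  rw [Subgroup.card_map_of_injective K.subtype_injective] at hCd
  have hp3 : p = 3 ∧ j = 1 := by
    rcases hp357 with ⟨rfl, h⟩ | ⟨rfl, h⟩ | ⟨rfl, h⟩
    · refine ⟨rfl, ?_⟩
      by_contra hne
      have : j = 2 := by omega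
      subst this
      rcases hq with rfl | rfl
      · rw [hζc.2.1 rfl] at hNc; norm_num at hNc
      · rw [hζc.1 rfl] at hNc; norm_num at hNc
    · exfalso
      rw [hξc.1 rfl] at hCd
      exact hCns (isSolvable_of_squarefree (Squarefree.squarefree_of_dvd hCd (by decide +kernel)))
    · exfalso
      rw [hξc.2.1 rfl] at hCd
      exact hCns (isSolvable_of_squarefree (Squarefree.squarefree_of_dvd hCd (by decide +kernel)))
  obtain ⟨rfl, rfl⟩ := hp3
  have hsupp : ξ.support.card = 3 := by
    rcases hξc.2.2 rfl with h | h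
    · exact h
    · exfalso
      rw [h] at hCd
      rcases hq with rfl | rfl <;> exact absurd (hqC.trans hCd) (by norm_num)
  rw [pow_one] at hj
  have hNz : ∀ n : K, n ∈ N → ∃ i : ℕ, (n : Perm (Fin 8)) = ξ ^ i := by
    intro n hn
    have hz : Subgroup.zpowers x = (⊤ : Subgroup N) := zpowers_eq_top_of_prime_card hj (by
      intro e; rw [e, orderOf_one] at hx; norm_num at hx)
    obtain ⟨i, hi⟩ := mem_powers_iff_mem_zpowers.mpr (hz ▸ Subgroup.mem_top (⟨n, hn⟩ : N))
    exact ⟨i, (congrArg (fun w : N => ((w : K) : Perm (Fin 8))) hi).symm⟩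
  -- the support is invariant
  have hinv : ∀ (k : K) (y : Fin 8), (k : Perm (Fin 8)) y ∉ ξ.support ↔ y ∉ ξ.support := by
    intro k y
    obtain ⟨i, hi⟩ := hNz (k * x * k⁻¹) ((inferInstance : N.Normal).conj_mem x x.2 k)
    rw [Subgroup.coe_mul, Subgroup.coe_mul, Subgroup.coe_inv] at hi
    have hb := congrArg Perm.support hi
    rw [Perm.support_conj] at hb
    have hsub : ξ.support.map (k : Perm (Fin 8)).toEmbedding ⊆ ξ.support := hb ▸ Perm.support_pow_le ξ i
    have heq := Finset.eq_of_subset_of_card_le hsub (by rw [Finset.card_map])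
    constructor
    · intro h hy; exact h (hsub (Finset.mem_map_of_mem _ hy))
    · intro h hy
      rw [← heq, Finset.mem_map] at hy
      obtain ⟨w, hw, e⟩ := hy
      exact h (((k : Perm (Fin 8)).injective e) ▸ hw)
  let T := {y : Fin 8 // y ∉ ξ.support}
  have hT : Fintype.card T = 5 := by
    rw [Fintype.card_subtype, show Finset.univ.filter (fun y => y ∉ ξ.support) = ξ.supportᶜ by ext y; simp,
      Finset.card_compl, hsupp, Fintype.card_fin]
  let ρ : K →* Perm T :=
    { toFun := fun k => (k : Perm (Fin 8)).subtypePerm (hinv k)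
      map_one' := Equiv.ext fun _ => rfl
      map_mul' := fun _ _ => Equiv.ext fun _ => rfl }
  have hker : ρ.ker ≤ N := by
    intro k hk
    have hfix : ∀ y, y ∉ ξ.support → (k : Perm (Fin 8)) y = y := fun y hy =>
      congrArg Subtype.val (DFunLike.congr_fun (MonoidHom.mem_ker.mp hk) (⟨y, hy⟩ : T))
    -- even permutations of three points are powers of the 3-cycle
    let E := (Perm.ofSubtype (p := fun y => y ∈ ξ.support)).range ⊓ alternatingGroup (Fin 8)
    have hkE : (k : Perm (Fin 8)) ∈ E := by
      refine ⟨⟨(k : Perm (Fin 8)).subtypePerm (fun y => not_iff_not.mp (hinv k y)), ?_⟩, heven k.2⟩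
      exact Perm.ofSubtype_subtypePerm (h₂ := fun y hy => by by_contra h; exact hy (hfix y h)) ..
    have hxk : N.map K.subtype ≤ E := by
      rintro _ ⟨n, hn, rfl⟩
      obtain ⟨i, hi⟩ := hNz n hn
      refine ⟨?_, heven n.2⟩
      show (n : Perm (Fin 8)) ∈ _
      rw [hi]
      refine pow_mem ?_ i
      exact ⟨ξ.subtypePerm (fun y => Perm.apply_mem_support), Perm.ofSubtype_subtypePerm (h₂ := fun y hy => Perm.mem_support.mpr hy) ..⟩
    have hE : Nat.card E ≤ 3 := by
      have hd : Nat.card E ∣ 6 := by
        have := Subgroup.card_dvd_of_le (inf_le_left : E ≤ _)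
        rw [show Nat.card (Perm.ofSubtype (p := fun y => y ∈ ξ.support)).range = 6 by
          rw [← Nat.card_congr (MonoidHom.ofInjective Perm.ofSubtype_injective).toEquiv, Nat.card_perm,
            Nat.card_eq_fintype_card, Fintype.card_coe, hsupp]; rfl] at this
        exact this
      by_contra hlt
      have h6 : Nat.card E = 6 := by
        have key : ∀ d ∈ Nat.divisors 6, 3 < d → d = 6 := by decide +kernel
        exact key _ (Nat.mem_divisors.mpr ⟨hd, by norm_num⟩) (by omega)
      obtain ⟨a, ha, b, hb, hab⟩ := Finset.one_lt_card.mp (by omega : 1 < ξ.support.card)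
      have hsw : Equiv.swap a b ∈ (Perm.ofSubtype (p := fun y => y ∈ ξ.support)).range :=
        ⟨Equiv.swap (⟨a, ha⟩ : {y // y ∈ ξ.support}) ⟨b, hb⟩, Perm.ofSubtype_swap_eq _ _⟩
      have heq : E = (Perm.ofSubtype (p := fun y => y ∈ ξ.support)).range :=
        Subgroup.eq_of_le_of_card_ge inf_le_left (by
          rw [h6, ← Nat.card_congr (MonoidHom.ofInjective Perm.ofSubtype_injective).toEquiv, Nat.card_perm,
            Nat.card_eq_fintype_card, Fintype.card_coe, hsupp]; rfl)
      rw [← heq] at hsw
      have := Equiv.Perm.mem_alternatingGroup.mp hsw.2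
      rw [Perm.sign_swap hab] at this
      exact absurd this (by decide)
    have heq : N.map K.subtype = E := Subgroup.eq_of_le_of_card_ge hxk (by
      rw [Subgroup.card_map_of_injective K.subtype_injective, hj]; exact hE)
    rw [← heq] at hkE
    obtain ⟨n, hn, e⟩ := hkE
    exact K.subtype_injective e ▸ hn
  have hRns : ¬ Group.IsSolvable ρ.range := by
    intro hs
    refine hns ?_
    haveI := hs
    haveI : Group.IsSolvable ρ.rangeRestrict.ker := by
      rw [MonoidHom.ker_rangeRestrict]
      haveI : Group.IsSolvable N := by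
        haveI : Fact (Nat.card N).Prime := ⟨by rw [hj]; norm_num⟩
        haveI : IsCyclic N := isCyclic_of_prime_card rfl
        letI : CommGroup N := IsCyclic.commGroup
        infer_instance
      exact Group.isSolvable_of_isSolvable_injective (f := Subgroup.inclusion hker) (Subgroup.inclusion_injective hker)
    exact Group.isSolvable_of_ker_le_range ρ.rangeRestrict.ker.subtype ρ.rangeRestrict (by simp)
  have hle := alt_le_of_nonsolvable hT hRns
  have hNker : N = ρ.ker := by
    refine le_antisymm ?_ hker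
    haveI : (N.map ρ.rangeRestrict).Normal := Subgroup.Normal.map inferInstance _ ρ.rangeRestrict_surjective
    have := CfsgLib.le_pCore ((CfsgLib.isPGroup_pCore (G := K) 3).map ρ.rangeRestrict)
    rw [pCore_of_alt hT hle, le_bot_iff, Subgroup.map_eq_bot_iff, MonoidHom.ker_rangeRestrict] at this
    exact this
  refine ⟨hj, ?_⟩
  let e : K ⧸ N ≃* ρ.range := (QuotientGroup.quotientMulEquivOfEq hNker).trans (QuotientGroup.quotientKerEquivRange ρ)
  have hAc := card_alt (α := T) 5 hT (by norm_num)
  have hd2 : ρ.range.index ∣ 2 := by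
    have hd := Subgroup.index_dvd_of_le hle
    haveI : Nontrivial T := Fintype.one_lt_card_iff_nontrivial.mp (by omega)
    rwa [alternatingGroup.index_eq_two] at hd
  rcases (Nat.dvd_prime Nat.prime_two).mp hd2 with he | he
  · exact Or.inr ⟨e.trans (((MulEquiv.subgroupCongr (Subgroup.index_eq_one.mp he)).trans Subgroup.topEquiv).trans
      (Fintype.equivFinOfCardEq hT).permCongrHom)⟩
  · have heq : alternatingGroup T = ρ.range := by
      refine Subgroup.eq_of_le_of_card_ge hle ?_
      have h1 := ρ.range.card_mul_index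
      rw [Nat.card_perm, Nat.card_eq_fintype_card (α := T), hT, show Nat.factorial 5 = 120 from rfl] at h1
      rw [he] at h1
      rw [show Nat.factorial 5 = 120 from rfl] at hAc
      omega
    exact Or.inl ⟨e.trans ((MulEquiv.subgroupCongr heq.symm).trans (Equiv.altCongrHom (Fintype.equivFinOfCardEq hT)))⟩

/-- Nonsolvable subgroups of `A8` with trivial 2-core. -/
theorem shape {Q : Type*} [Group Q] [Finite Q] (f : Q →* alternatingGroup (Fin 8)) (hf : Function.Injective f)
    (hns : ¬ Group.IsSolvable Q) (h2 : pCore 2 Q = ⊥) :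
    Listed Q ∨ (Nat.card (pCore 3 Q) = 3 ∧ (Nonempty (Q ⧸ pCore 3 Q ≃* alternatingGroup (Fin 5)) ∨
      Nonempty (Q ⧸ pCore 3 Q ≃* Perm (Fin 5)))) := by
  classical
  by_cases hr : RadFree Q
  · left
    obtain ⟨e⟩ := GL4A8.nonempty_mulEquiv
    let g : Q →* GL4 := e.symm.toMonoidHom.comp f
    have hg : Function.Injective g := e.symm.injective.comp hf
    refine Listed.congr (MonoidHom.ofInjective hg) (listed_of_radFree ?_ (RadFree.congr (MonoidHom.ofInjective hg) hr))
    intro hb
    refine hns (Group.isSolvable_of_comm fun a b => hg ?_)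
    have h1 : ∀ a : Q, g a = 1 := fun a => Subgroup.mem_bot.mp (hb ▸ MonoidHom.mem_range.mpr ⟨a, rfl⟩)
    rw [h1, h1]
  · right
    let ι : Q →* Perm (Fin 8) := (alternatingGroup (Fin 8)).subtype.comp f
    have hι : Function.Injective ι := (alternatingGroup (Fin 8)).subtype_injective.comp hf
    let E : Q ≃* ι.range := MonoidHom.ofInjective hι
    have heven : ι.range ≤ alternatingGroup (Fin 8) := by
      rintro _ ⟨x, rfl⟩
      exact (f x).2
    have hns' : ¬ Group.IsSolvable ι.range := fun h => hns (by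
      haveI := h
      exact Group.isSolvable_of_isSolvable_injective (f := E.toMonoidHom) E.injective)
    have h2' : pCore 2 ι.range = ⊥ := by rw [← CfsgLib.pCore_map_equiv 2 E, h2, Subgroup.map_bot]
    obtain ⟨h3, h4⟩ := shape_of_not_radFree heven hns' h2' (fun h => hr (RadFree.congr E.symm h))
    have hmap := CfsgLib.pCore_map_equiv 3 E
    refine ⟨?_, ?_⟩
    · rw [← hmap] at h3
      refine Eq.trans ?_ h3
      exact Nat.card_congr (E.subgroupMap (pCore 3 Q)).toEquiv
    · let E' : Q ⧸ pCore 3 Q ≃* ι.range ⧸ pCore 3 ι.range := QuotientGroup.congr _ _ E hmap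
      exact h4.imp (fun ⟨a⟩ => ⟨E'.trans a⟩) (fun ⟨a⟩ => ⟨E'.trans a⟩)

end CfsgLib.SectFour
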