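/-
A section of rank five over an extension of a four-dimensional module by a subgroup of order 720.
-/
import Cfsg.Agent.Lib.SectFour.Data
import Cfsg.Agent.Lib.SectFour.Shape
import Cfsg.Agent.Lib.CentralPairRank

set_option autoImplicit false
set_option linter.style.haveILetI false
set_option maxRecDepth 8000

namespace CfsgLib.SectFour

open Equiv Matrix Cfsg CfsgLib.GL4A8

/-- The permutations preserving a set. -/
def St (S : Finset (Fin 8)) : Subgroup (Perm (Fin 8)) where
  carrier := {σ | ∀ y, σ y ∈ S ↔ y ∈ S}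
  one_mem' := fun _ => Iff.rfl
  mul_mem' := fun {a b} ha hb y => (ha (b y)).trans (hb y)
  inv_mem' := fun {a} ha y => by
    have := ha (a⁻¹ y)
    rw [show a (a⁻¹ y) = y from a.apply_symm_apply y] at this
    exact this.symm

theorem two_mul_card_le {S : Finset (Fin 8)} (hS : 2 ≤ S.card) {K : Subgroup (Perm (Fin 8))}
    (heven : K ≤ alternatingGroup (Fin 8)) (hK : K ≤ St S) :
    2 * Nat.card K ≤ S.card.factorial * (8 - S.card).factorial := by
  classical
  obtain ⟨a, ha, b, hb, hab⟩ := Finset.one_lt_card.mp hS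
  have hsw : Equiv.swap a b ∈ St S := by
    intro y
    by_cases h1 : y = a
    · subst h1; rw [Equiv.swap_apply_left]; exact iff_of_true hb ha
    by_cases h2 : y = b
    · subst h2; rw [Equiv.swap_apply_right]; exact iff_of_true ha hb
    rw [Equiv.swap_apply_of_ne_of_ne h1 h2]
  have hlt : Nat.card K < Nat.card (St S) := by
    refine lt_of_le_of_ne (Subgroup.card_le_of_le hK) fun e => ?_
    have := Equiv.Perm.mem_alternatingGroup.mp
      (heven ((Subgroup.eq_of_le_of_card_ge hK e.ge).ge hsw))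
    rw [Perm.sign_swap hab] at this
    exact absurd this (by decide)
  obtain ⟨c, hc⟩ := Subgroup.card_dvd_of_le hK
  have hc2 : 2 ≤ c := by
    rcases c with _ | _ | c
    · simp at hc
    · omega
    · omega
  have hcard : Nat.card (St S) ≤ S.card.factorial * (8 - S.card).factorial := by
    let f : St S → Perm {y : Fin 8 // y ∈ S} × Perm {y : Fin 8 // y ∉ S} := fun σ =>
      ((σ : Perm (Fin 8)).subtypePerm σ.2, (σ : Perm (Fin 8)).subtypePerm (fun y => not_congr (σ.2 y)))
    have hf : Function.Injective f := by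
      intro σ τ e
      refine Subtype.ext (Equiv.ext fun y => ?_)
      by_cases hy : y ∈ S
      · exact congrArg Subtype.val (DFunLike.congr_fun (congrArg Prod.fst e) ⟨y, hy⟩)
      · exact congrArg Subtype.val (DFunLike.congr_fun (congrArg Prod.snd e) ⟨y, hy⟩)
    refine le_trans (Nat.card_le_card_of_injective f hf) (le_of_eq ?_)
    rw [Nat.card_prod, Nat.card_perm, Nat.card_perm, Nat.card_eq_fintype_card, Nat.card_eq_fintype_card,
      Fintype.card_coe, Fintype.card_subtype_compl, Fintype.card_fin, Fintype.card_coe]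
  nlinarith

/-- A subgroup of order 720 of `A8` is the even stabilizer of a pair. -/
theorem pair_stabilizer {K : Subgroup (Perm (Fin 8))} (heven : K ≤ alternatingGroup (Fin 8))
    (hc : Nat.card K = 720) :
    ∃ S : Finset (Fin 8), S.card = 6 ∧ K = St S ⊓ alternatingGroup (Fin 8) := by
  classical
  haveI : Fact (Nat.Prime 5) := ⟨by norm_num⟩
  obtain ⟨x, hx⟩ := exists_prime_orderOf_dvd_card' (G := K) 5 (by rw [hc]; norm_num)
  set σ : Perm (Fin 8) := (x : Perm (Fin 8))
  have hσo : orderOf σ = 5 := by rw [Subgroup.orderOf_coe, hx]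
  have hcyc : σ.IsCycle := Perm.isCycle_of_prime_order' (by rw [hσo]; norm_num)
    (by rw [hσo, Fintype.card_fin]; norm_num)
  have hsupp : σ.support.card = 5 := by rw [← hcyc.orderOf, hσo]
  obtain ⟨a, ha⟩ : σ.support.Nonempty := Finset.card_pos.mp (by omega)
  obtain ⟨S, hSdef⟩ : ∃ S : Finset (Fin 8), ∀ y, y ∈ S ↔ y ∈ MulAction.orbit K a :=
    ⟨(MulAction.orbit K a).toFinset, fun y => Set.mem_toFinset⟩
  have hsub : σ.support ⊆ S := by
    intro y hy
    obtain ⟨i, rfl⟩ := hcyc.exists_pow_eq (Perm.mem_support.mp ha) (Perm.mem_support.mp hy)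
    exact (hSdef _).mpr ⟨x ^ i, rfl⟩
  have hS5 : 5 ≤ S.card := hsupp ▸ Finset.card_le_card hsub
  have hKS : K ≤ St S := by
    intro k hk y
    rw [hSdef, hSdef]
    show (⟨k, hk⟩ : K) • y ∈ MulAction.orbit K a ↔ y ∈ MulAction.orbit K a
    rw [← MulAction.orbit_eq_iff, ← MulAction.orbit_eq_iff, MulAction.orbit_smul]
  have hdvd : S.card ∣ 720 := by
    have h := (MulAction.stabilizer K a).index_dvd_card
    rwa [MulAction.index_stabilizer, hc,
      show MulAction.orbit K a = (S : Set (Fin 8)) from Set.ext fun y => (hSdef y).symm,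
      Set.ncard_coe_finset] at h
  have h2 := two_mul_card_le (by omega) heven hKS
  rw [hc] at h2
  have hle : S.card ≤ 8 := by simpa using S.card_le_univ
  rcases (show S.card = 5 ∨ S.card = 6 ∨ S.card = 7 ∨ S.card = 8 by omega) with e | e | e | e
  · rw [e] at h2; norm_num [Nat.factorial] at h2
  · refine ⟨S, e, Subgroup.eq_of_le_of_card_ge (le_inf hKS heven) ?_⟩
    have h3 := two_mul_card_le (K := St S ⊓ alternatingGroup (Fin 8)) (by omega) inf_le_right inf_le_left
    rw [e] at h3
    rw [show Nat.factorial 6 * Nat.factorial (8 - 6) = 1440 from by decide] at h3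
    omega
  · rw [e] at hdvd; norm_num at hdvd
  · exfalso
    have hu : S = Finset.univ := Finset.eq_univ_of_card _ (by rw [e, Fintype.card_fin])
    haveI : MulAction.IsPretransitive K (Fin 8) := by
      refine ⟨fun y z => ?_⟩
      obtain ⟨gy, rfl⟩ := (hSdef y).mp (hu ▸ Finset.mem_univ y)
      obtain ⟨gz, rfl⟩ := (hSdef z).mp (hu ▸ Finset.mem_univ z)
      exact ⟨gz * gy⁻¹, by show (gz * gy⁻¹) • (gy • a) = gz • a; rw [mul_smul, inv_smul_smul]⟩
    have := EightSubgroups.dvd_1680 (K := K) (by rw [hc]; norm_num)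
    rw [hc] at this
    norm_num at this

theorem range_toPerm : toPerm.range = alternatingGroup (Fin 8) := by
  obtain ⟨e⟩ := GL4A8.nonempty_mulEquiv
  have hc : Nat.card toPerm.range = 20160 := by
    rw [← Nat.card_congr (MonoidHom.ofInjective toPerm_injective).toEquiv, Nat.card_congr e.toEquiv,
      EightSubgroups.card_A8]
  have hidx : toPerm.range.index = 2 := by
    have h := toPerm.range.card_mul_index
    rw [hc, Nat.card_perm, Nat.card_fin, show Nat.factorial 8 = 40320 from rfl] at h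
    omega
  exact Equiv.Perm.eq_alternatingGroup_of_index_eq_two hidx

/-- A subgroup of order 720 or of index at most four contains a conjugate of the six matrices. -/
theorem exists_conj_table (R : Subgroup GV) (hR : Nat.card R = 720 ∨ 5040 ≤ Nat.card R) :
    ∃ h : GV, ∀ q ∈ table, h * q.1 * h⁻¹ ∈ R := by
  classical
  have hA8 := EightSubgroups.card_A8
  set K := R.map toPerm
  have hKc : Nat.card K = Nat.card R := Subgroup.card_map_of_injective toPerm_injective
  have heven : K ≤ alternatingGroup (Fin 8) := by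
    rintro _ ⟨g, -, rfl⟩
    rw [← range_toPerm]
    exact ⟨g, rfl⟩
  have hback : ∀ h : GV, (∀ q ∈ table, toPerm h * q.2 * (toPerm h)⁻¹ ∈ K) → ∀ q ∈ table, h * q.1 * h⁻¹ ∈ R := by
    intro h hh q hq
    obtain ⟨r, hr, e⟩ := hh q hq
    rw [← toPerm_table hq, ← map_inv, ← map_mul, ← map_mul] at e
    exact toPerm_injective e ▸ hr
  rcases hR with hR | hR
  · obtain ⟨S, hS, hKeq⟩ := pair_stabilizer heven (hKc.trans hR)
    let S₀ : Finset (Fin 8) := Finset.univ.filter fun y => ¬ (y = 6 ∨ y = 7)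
    have hS₀ : S₀.card = 6 := by decide +kernel
    obtain ⟨τ, hτ, hτA⟩ : ∃ τ : Perm (Fin 8), (∀ y, τ y ∈ S ↔ y ∈ S₀) ∧ τ ∈ alternatingGroup (Fin 8) := by
      let e1 : {y // y ∈ S₀} ≃ {y // y ∈ S} := Fintype.equivOfCardEq (by rw [Fintype.card_coe, Fintype.card_coe, hS, hS₀])
      let e2 : {y // y ∉ S₀} ≃ {y // y ∉ S} := Fintype.equivOfCardEq (by
        rw [Fintype.card_subtype_compl, Fintype.card_subtype_compl, Fintype.card_coe, Fintype.card_coe, hS, hS₀])
      let τ : Perm (Fin 8) := ((Equiv.sumCompl _).symm.trans ((e1.sumCongr e2).trans (Equiv.sumCompl _)))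
      have hτ : ∀ y, τ y ∈ S ↔ y ∈ S₀ := by
        intro y
        by_cases hy : y ∈ S₀
        · simp [τ, hy]
        · simp [τ, hy, (e2 ⟨y, hy⟩).2]
      rcases Int.units_eq_one_or (Perm.sign τ) with e | e
      · exact ⟨τ, hτ, Equiv.Perm.mem_alternatingGroup.mpr e⟩
      · refine ⟨τ * Equiv.swap 6 7, fun y => (hτ _).trans ?_, Equiv.Perm.mem_alternatingGroup.mpr ?_⟩
        · revert y; decide +kernel
        · rw [map_mul, e, Perm.sign_swap (by decide)]; decide
    rw [← range_toPerm] at hτA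
    obtain ⟨h, hh⟩ := hτA
    refine ⟨h, hback h fun q hq => ?_⟩
    rw [hKeq, hh]
    refine ⟨fun y => ?_, ?_⟩
    · show τ (q.2 (τ⁻¹ y)) ∈ S ↔ y ∈ S
      rw [hτ]
      have h1 := table_pair q hq (τ⁻¹ y)
      have h2 := hτ (τ⁻¹ y)
      rw [show τ (τ⁻¹ y) = y from τ.apply_symm_apply y] at h2
      rw [h2, Finset.mem_filter, Finset.mem_filter]
      simp only [Finset.mem_univ, true_and]
      exact not_congr h1
    · refine Equiv.Perm.mem_alternatingGroup.mpr ?_
      rw [map_mul, map_mul, map_inv, table_sign q hq, mul_one, mul_inv_cancel]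
  · refine ⟨1, fun q _ => ?_⟩
    haveI : IsSimpleGroup (alternatingGroup (Fin 8)) := alternatingGroup.isSimpleGroup (by simp)
    have htop : K.subgroupOf (alternatingGroup (Fin 8)) = ⊤ := by
      by_contra hne
      have h1 := SmallOrder.card_dvd_factorial_index hne
      have h2 := (K.subgroupOf (alternatingGroup (Fin 8))).card_mul_index
      rw [Nat.card_congr (Subgroup.subgroupOfEquivOfLe heven).toEquiv, hKc, hA8] at h2
      rw [hA8] at h1
      have h4 : (K.subgroupOf (alternatingGroup (Fin 8))).index ≤ 4 := by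
        by_contra hlt
        push Not at hlt
        nlinarith
      exact absurd (h1.trans (Nat.factorial_dvd_factorial h4)) (by decide)
    have hle : alternatingGroup (Fin 8) ≤ K := Subgroup.subgroupOf_eq_top.mp htop
    have hmem : toPerm (1 * q.1 * 1⁻¹) ∈ K := hle (by rw [← range_toPerm]; exact ⟨_, rfl⟩)
    obtain ⟨r, hr, e⟩ := hmem
    exact toPerm_injective e ▸ hr

/-- The eight matrices as a group. -/
def Rg : Subgroup GV where
  carrier := {g | ((g : GV) : M4) ∈ Rl}
  one_mem' := by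
    show ((1 : GV) : M4) ∈ Rl
    rw [Units.val_one]; exact List.mem_cons_self
  mul_mem' := fun {a b} ha hb => Rl_mul _ ha _ hb
  inv_mem' := fun {a} ha => by
    show ((a⁻¹ : GV) : M4) ∈ Rl
    rwa [show (a⁻¹ : GV) = a from inv_eq_of_mul_eq_one_left (Units.ext (Rl_sq _ ha))]

theorem card_Rg : Nat.card Rg = 8 := by
  let e : Rg ≃ {x : M4 // x ∈ Rl} :=
    { toFun := fun g => ⟨_, g.2⟩
      invFun := fun x => ⟨⟨x.1, x.1, Rl_sq _ x.2, Rl_sq _ x.2⟩, x.2⟩
      left_inv := fun g => Subtype.ext (Units.ext rfl)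
      right_inv := fun x => rfl }
  rw [Nat.card_congr e, Nat.card_congr (List.Nodup.getEquiv Rl Rl_nodup).symm, Nat.card_fin]
  rfl

theorem sq_inW {Y : Type*} [Group Y] {V : Subgroup Y} [V.Normal] (ι : Additive V ≃+ (Fin 4 → ZMod 2))
    (φ : Y →* GV) (hker : φ.ker = V)
    (hconj : ∀ (y : Y) (v : V), ι (Additive.ofMul (MulAut.conjNormal y v)) = ((φ y : GV) : M4).mulVec (ι (Additive.ofMul v)))
    (hA : Ma ∈ φ.range) (hB : Mb ∈ φ.range) (hC : Mc ∈ φ.range)
    (hGA : Ga ∈ φ.range) (hGB : Gb ∈ φ.range) (hGC : Gc ∈ φ.range)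
    {y : Y} (hy : φ y ∈ Rg) : ∃ h : y * y ∈ V, InW (ι (Additive.ofMul ⟨y * y, h⟩)) := by
  have hsq : φ y * φ y = 1 := Units.ext (Rl_sq _ hy)
  have hmem : y * y ∈ V := by rw [← hker, MonoidHom.mem_ker, map_mul, hsq]
  refine ⟨hmem, ?_⟩
  set v := ι (Additive.ofMul (⟨y * y, hmem⟩ : V))
  have hfix : ((φ y : GV) : M4).mulVec v = v := by
    rw [← hconj]
    congr 1
    exact congrArg _ (Subtype.ext (by simp [mul_assoc]))
  have hspec : ∀ g : GV, g ∈ φ.range → (((φ y : GV) : M4), ((g : GV) : M4)) ∈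
      [((Ma : M4), (Ga : M4)), ((Mb : M4), (Gb : M4)), ((Mc : M4), (Gc : M4))] → InW v := by
    rintro _ ⟨z, rfl⟩ hpair
    obtain ⟨hcom, hsp⟩ := special _ hpair
    have hcom' : φ z * φ y * (φ z)⁻¹ = φ y := by
      rw [show φ z * φ y = φ y * φ z from Units.ext hcom.symm, mul_inv_cancel_right]
    have hu : y⁻¹ * (z * y * z⁻¹) ∈ V := by
      rw [← hker, MonoidHom.mem_ker, map_mul, map_mul, map_mul, map_inv, map_inv, hcom', inv_mul_cancel]
    set u := ι (Additive.ofMul (⟨_, hu⟩ : V))
    refine hsp v hfix u ?_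
    show ((φ z : GV) : M4).mulVec v = v + u + ((φ y : GV) : M4).mulVec u
    rw [← hconj z]
    have hu' : ((φ y : GV) : M4).mulVec u = ι (Additive.ofMul (MulAut.conjNormal y⁻¹ (⟨_, hu⟩ : V))) := by
      rw [hconj]
      congr 1
      show ((φ y : GV) : M4) = ((φ y⁻¹ : GV) : M4)
      rw [map_inv, inv_eq_of_mul_eq_one_left hsq]
    rw [hu']
    show _ = ι _ + ι _ + ι _
    rw [add_right_comm, ← map_add, ← map_add, ← ofMul_mul, ← ofMul_mul]
    congr 2
    apply Subtype.ext
    simp only [MulAut.conjNormal_apply, Subgroup.coe_mul, inv_inv]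
    group
  rcases fixed_inW _ hy with h | h | h | h | h
  · have hyV : y ∈ V := by rw [← hker, MonoidHom.mem_ker]; exact Units.ext h
    have h2 : Additive.ofMul (⟨y * y, hmem⟩ : V) = Additive.ofMul (⟨y, hyV⟩ : V) + Additive.ofMul (⟨y, hyV⟩ : V) := rfl
    show InW (ι (Additive.ofMul (⟨y * y, hmem⟩ : V)))
    rw [h2, map_add, show ι (Additive.ofMul (⟨y, hyV⟩ : V)) + ι (Additive.ofMul (⟨y, hyV⟩ : V)) = 0 from
      funext fun i => GL4A8.xor_checked _]
    exact ⟨rfl, rfl⟩
  · exact hspec Ga hGA (by rw [h]; simp)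
  · exact hspec Gb hGB (by rw [h]; simp)
  · exact hspec Gc hGC (by rw [h]; simp)
  · exact h v hfix

/-- Rank five. -/
theorem not_sectional {X Y : Type*} [Group X] [Finite X] [Group Y] [Finite Y] (π : X →* Y)
    (hπ : Function.Surjective π) {V : Subgroup Y} [V.Normal] (ι : Additive V ≃+ (Fin 4 → ZMod 2))
    (φ : Y →* GV) (hker : φ.ker = V)
    (hconj : ∀ (y : Y) (v : V), ι (Additive.ofMul (MulAut.conjNormal y v)) = ((φ y : GV) : M4).mulVec (ι (Additive.ofMul v)))
    (hA : Ma ∈ φ.range) (hB : Mb ∈ φ.range) (hC : Mc ∈ φ.range)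
    (hGA : Ga ∈ φ.range) (hGB : Gb ∈ φ.range) (hGC : Gc ∈ φ.range) :
    ¬ SectionalPRankLE 2 4 X := by
  intro hr
  classical
  set T := Rg.comap φ with hT
  have hVT : V ≤ T := fun v hv => by
    rw [hT, Subgroup.mem_comap, MonoidHom.mem_ker.mp (hker.ge hv)]; exact one_mem _
  let W : Subgroup T :=
    { carrier := {t | ∃ h : (t : Y) ∈ V, InW (ι (Additive.ofMul (⟨t, h⟩ : V)))}
      one_mem' := ⟨one_mem V, by
        rw [show Additive.ofMul (⟨((1 : T) : Y), one_mem V⟩ : V) = (0 : Additive V) from rfl, map_zero]; exact ⟨rfl, rfl⟩⟩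
      mul_mem' := by
        rintro a b ⟨ha, hwa⟩ ⟨hb, hwb⟩
        refine ⟨mul_mem ha hb, ?_⟩
        rw [show Additive.ofMul (⟨((a * b : T) : Y), mul_mem ha hb⟩ : V) =
          Additive.ofMul (⟨a, ha⟩ : V) + Additive.ofMul (⟨b, hb⟩ : V) from rfl, map_add]
        refine ⟨?_, ?_⟩
        · rw [Pi.add_apply, hwa.1, hwb.1, add_zero]
        · rw [Pi.add_apply, Pi.add_apply, hwa.2, hwb.2]
      inv_mem' := by
        rintro a ⟨ha, hwa⟩
        refine ⟨inv_mem ha, ?_⟩
        rw [show Additive.ofMul (⟨((a⁻¹ : T) : Y), inv_mem ha⟩ : V) = -Additive.ofMul (⟨a, ha⟩ : V) from rfl, map_neg]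
        exact ⟨by rw [Pi.neg_apply, hwa.1, neg_zero], by rw [Pi.neg_apply, Pi.neg_apply, hwa.2]⟩ }
  haveI hWn : W.Normal := ⟨by
    rintro a ⟨ha, hwa⟩ g
    refine ⟨(inferInstance : V.Normal).conj_mem _ ha g, ?_⟩
    have e : (⟨((g * a * g⁻¹ : T) : Y), (inferInstance : V.Normal).conj_mem _ ha g⟩ : V) =
        MulAut.conjNormal (H := V) (g : Y) (⟨a, ha⟩ : V) := Subtype.ext (MulAut.conjNormal_apply (H := V) (g : Y) ⟨a, ha⟩).symm
    rw [e, hconj]
    exact inW_invariant _ g.2 _ hwa⟩
  let ψ : T.comap π →* T ⧸ W := (QuotientGroup.mk' W).comp (π.subgroupComap T)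
  have hψ : Function.Surjective ψ :=
    (QuotientGroup.mk'_surjective W).comp fun t => by
      obtain ⟨x, hx⟩ := hπ t
      exact ⟨⟨x, by rw [Subgroup.mem_comap, hx]; exact t.2⟩, Subtype.ext hx⟩
  have hexp : ∀ e : T ⧸ W, e ^ 2 = 1 := by
    intro e
    obtain ⟨t, rfl⟩ := QuotientGroup.mk_surjective e
    rw [← QuotientGroup.mk_pow, QuotientGroup.eq_one_iff, sq]
    exact sq_inW ι φ hker hconj hA hB hC hGA hGB hGC t.2
  have hle := CentralPair.sect_bound (S := X) hr (T.comap π).subtype (Subgroup.subtype_injective _) ψ hψ hexp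
  have hW : Nat.card W = 4 := by
    let e : W ≃ {v : Fin 4 → ZMod 2 // InW v} :=
      { toFun := fun w => ⟨ι (Additive.ofMul (⟨(w : T), w.2.1⟩ : V)), w.2.2⟩
        invFun := fun v => ⟨⟨(Additive.toMul (ι.symm v.1) : V), hVT (Additive.toMul (ι.symm v.1)).2⟩,
          (Additive.toMul (ι.symm v.1)).2, by
            have : ι (Additive.ofMul (Additive.toMul (ι.symm v.1))) = v.1 := ι.apply_symm_apply v.1
            exact (congrArg InW this).mpr v.2⟩
        left_inv := fun w => Subtype.ext (Subtype.ext (congrArg (fun z : Additive V => ((Additive.toMul z : V) : Y))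
          (ι.symm_apply_apply (Additive.ofMul (⟨(w : T), w.2.1⟩ : V)))))
        right_inv := fun v => Subtype.ext (ι.apply_symm_apply v.1) }
    rw [Nat.card_congr e, Nat.card_eq_fintype_card, card_inW]
  have hV : Nat.card V = 16 := by
    rw [show Nat.card V = Nat.card (Additive V) from rfl, Nat.card_congr ι.toEquiv, Nat.card_fun, Nat.card_zmod,
      Nat.card_fin]
    rfl
  have hRle : Rg ≤ φ.range := by
    intro g hg
    have hgens : ∀ x ∈ Rl, x ∈ [1, (Ma : M4), (Mb : M4), (Mc : M4), (Ma : M4) * (Mb : M4), (Ma : M4) * (Mc : M4),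
        (Mb : M4) * (Mc : M4), (Ma : M4) * (Mb : M4) * (Mc : M4)] := by
      have h : (Rl.all fun x => ([1, (Ma : M4), (Mb : M4), (Mc : M4), (Ma : M4) * (Mb : M4), (Ma : M4) * (Mc : M4),
        (Mb : M4) * (Mc : M4), (Ma : M4) * (Mb : M4) * (Mc : M4)] : List M4).any fun z => decide (x = z)) = true := by
        decide +kernel
      intro x hx
      obtain ⟨z, hz, e⟩ := List.any_eq_true.mp (List.all_eq_true.mp h x hx)
      exact of_decide_eq_true e ▸ hz
    have hval : ∀ k : GV, k ∈ φ.range → (g : M4) = (k : M4) → g ∈ φ.range := fun k hk e => (Units.ext e : g = k) ▸ hk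
    have := hgens _ hg
    simp only [List.mem_cons, List.not_mem_nil, or_false] at this
    rcases this with e | e | e | e | e | e | e | e
    · exact hval 1 (one_mem _) e
    · exact hval _ hA e
    · exact hval _ hB e
    · exact hval _ hC e
    · exact hval _ (mul_mem hA hB) e
    · exact hval _ (mul_mem hA hC) e
    · exact hval _ (mul_mem hB hC) e
    · exact hval _ (mul_mem (mul_mem hA hB) hC) e
  have hTc : Nat.card T = 16 * 8 := by
    let f : T →* Rg := φ.subgroupComap Rg
    have hf : Function.Surjective f := fun r => by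
      obtain ⟨y, hy⟩ := hRle r.2
      exact ⟨⟨y, by rw [hT, Subgroup.mem_comap, hy]; exact r.2⟩, Subtype.ext hy⟩
    have hk : f.ker = V.subgroupOf T := by
      ext t
      rw [MonoidHom.mem_ker, Subgroup.mem_subgroupOf, ← hker, MonoidHom.mem_ker]
      exact ⟨fun h => congrArg Subtype.val h, fun h => Subtype.ext h⟩
    have h1 := f.ker.card_mul_index
    rw [Subgroup.index_ker, MonoidHom.range_eq_top.mpr hf, Subgroup.card_top, card_Rg, hk,
      Nat.card_congr (Subgroup.subgroupOfEquivOfLe hVT).toEquiv, hV] at h1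
    exact h1.symm
  have := Subgroup.card_eq_card_quotient_mul_card_subgroup W
  rw [hTc, hW] at this
  omega

end CfsgLib.SectFour
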