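/-
Two-constrained groups: the exclusion of S6, S7 and A8 in sectional 2-rank four.
-/
import Cfsg.Agent.Lib.SectFour.Five
import Cfsg.Agent.Lib.SectFour.Shape

set_option autoImplicit false
set_option linter.style.haveILetI false
set_option maxRecDepth 8000

namespace CfsgLib.SectFour

open Equiv Matrix Cfsg CfsgLib.GL4A8

theorem card_GL_small : ∀ n : ℕ, n ≤ 3 → Nat.card (GL (Fin n) (ZMod 2)) ≤ 168 := by
  haveI : Fact (Nat.Prime 2) := ⟨Nat.prime_two⟩
  intro n hn
  rw [Matrix.card_GL_field]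
  interval_cases n <;> simp [Fin.prod_univ_succ]

/-- In sectional 2-rank four the radical quotient has order neither 720 nor at least 5040. -/
theorem not_big {X : Type*} [Group X] [Finite X] (hc : IsPConstrained 2 X) (hO : oddCore X = ⊥)
    (hr : SectionalPRankLE 2 4 X)
    (hbig : Nat.card (X ⧸ pCore 2 X) = 720 ∨ 5040 ≤ Nat.card (X ⧸ pCore 2 X)) : False := by
  classical
  haveI : Fact (Nat.Prime 2) := ⟨Nat.prime_two⟩
  set Q := pCore 2 X with hQdef
  have hQ : IsPGroup 2 Q := CfsgLib.isPGroup_pCore 2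
  haveI : (frattini Q).Characteristic := frattini_characteristic
  set F : Subgroup X := (frattini Q).map Q.subtype with hF
  haveI : F.Normal := ConjAct.normal_of_characteristic_of_normal
  let π : X →* X ⧸ F := QuotientGroup.mk' F
  have hπ : Function.Surjective π := QuotientGroup.mk'_surjective F
  set V : Subgroup (X ⧸ F) := Q.map π with hVdef
  haveI : V.Normal := Subgroup.Normal.map inferInstance _ hπ
  have hsq : ∀ v : V, v ^ 2 = 1 := by
    rintro ⟨v, x, hx, rfl⟩
    apply Subtype.ext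
    show π x ^ 2 = 1
    rw [← map_pow]
    exact (QuotientGroup.eq_one_iff _).mpr ⟨_, CfsgLib.pow_mem_frattini_pGroup hQ ⟨x, hx⟩, rfl⟩
  have hcommV : ∀ a b : V, a * b = b * a := by
    intro a b
    have hinv : ∀ c : V, c⁻¹ = c := fun c => inv_eq_of_mul_eq_one_right (by rw [← sq, hsq])
    calc a * b = (a * b)⁻¹ := (hinv _).symm
      _ = b * a := by rw [_root_.mul_inv_rev, hinv, hinv]
  letI : CommGroup V := { (inferInstance : Group V) with mul_comm := hcommV }
  -- the action
  let σ : X ⧸ F →* MulAut V := MulAut.conjNormal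
  have hker : σ.ker = V := by
    apply le_antisymm
    · have hle : σ.ker.comap π ≤ Q := by
        refine CfsgLib.le_pCore fun ⟨x, hx⟩ => ?_
        obtain ⟨k, m, hm, he⟩ := Nat.exists_eq_pow_mul_and_not_dvd (orderOf_pos x).ne' 2 (by norm_num)
        refine ⟨k, Subtype.ext ?_⟩
        set y := x ^ (2 ^ k) with hy
        show y = 1
        have hyo : orderOf y = m := by
          rw [hy, orderOf_pow, he, Nat.gcd_eq_right (dvd_mul_right _ _), Nat.mul_div_cancel_left _ (by positivity)]
        have hcop : m.Coprime 2 := (Nat.Prime.coprime_iff_not_dvd Nat.prime_two).mpr hm |>.symm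
        have hyk : y ∈ σ.ker.comap π := pow_mem hx _
        have hcen : y ∈ Subgroup.centralizer (Q : Set X) := by
          refine CfsgLib.centralize_of_trivial_mod_frattini (A := Subgroup.zpowers y) ?_ ?_ ?_
            (Subgroup.mem_zpowers y)
          · rw [Subgroup.normalizer_eq_top]; exact le_top
          · rw [Nat.card_zpowers, hyo]
            obtain ⟨j, hj⟩ := IsPGroup.iff_card.mp (hQ.to_subgroup (frattini Q))
            rw [hj]
            exact hcop.pow_right j
          · intro a ha q hq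
            have hak : a ∈ σ.ker.comap π := (Subgroup.zpowers_le.mpr hyk) ha
            have h1 := congrArg Subtype.val (DFunLike.congr_fun (MonoidHom.mem_ker.mp hak)
              (⟨π q, q, hq, rfl⟩ : V))
            have h2 : π (a * q * a⁻¹ * q⁻¹) = 1 := by
              rw [map_mul, map_mul, map_mul, map_inv, map_inv, mul_inv_eq_one]
              exact (MulAut.conjNormal_apply ..).symm.trans h1
            obtain ⟨f, hf, e⟩ := (QuotientGroup.eq_one_iff _).mp h2
            exact ⟨f, hf, e⟩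
        obtain ⟨j, hj⟩ := hQ ⟨y, RadicalQuotient.centralizer_le hc hO hcen⟩
        have hj' : y ^ 2 ^ j = 1 := congrArg Subtype.val hj
        refine orderOf_eq_one_iff.mp ?_
        refine Nat.eq_one_of_dvd_coprimes (a := m) (hcop.pow_right j) ?_ (orderOf_dvd_of_pow_eq_one hj')
        rw [hyo]
      rw [← Subgroup.map_comap_eq_self_of_surjective hπ σ.ker]
      exact Subgroup.map_mono hle
    · intro v hv
      rw [MonoidHom.mem_ker]
      refine MulEquiv.ext fun w => Subtype.ext ?_
      show ((MulAut.conjNormal (H := V) v w : V) : X ⧸ F) = w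
      rw [MulAut.conjNormal_apply, show v * (w : X ⧸ F) = (w : X ⧸ F) * v from
        congrArg Subtype.val (hcommV ⟨v, hv⟩ w), mul_inv_cancel_right]
  have hidx : V.index = Nat.card (X ⧸ Q) := by
    rw [← Subgroup.index_comap_of_surjective V hπ, hVdef, Subgroup.comap_map_eq, QuotientGroup.ker_mk',
      sup_eq_left.mpr (Subgroup.map_subtype_le _), Subgroup.index]
  have hrange : Nat.card σ.range = Nat.card (X ⧸ Q) := by rw [← Subgroup.index_ker, hker, hidx]
  -- the dimension
  letI : Module (ZMod 2) (Additive V) := AddCommGroup.zmodModule fun x => hsq x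
  set n := Module.finrank (ZMod 2) (Additive V) with hn
  have hn4 : n ≤ 4 := by
    have h1 := CentralPair.sect_bound (S := X) hr Q.subtype (Subgroup.subtype_injective _) (π.subgroupMap Q)
      (MonoidHom.subgroupMap_surjective π Q) (fun v => hsq v)
    rw [show Nat.card (Q.map π) = Nat.card (Additive V) from rfl, Module.natCard_eq_pow_finrank (K := ZMod 2),
      Nat.card_zmod] at h1
    exact (Nat.pow_le_pow_iff_right (by norm_num)).mp (h1.trans_eq (by norm_num : (16 : ℕ) = 2 ^ 4))
  let b := Module.finBasisOfFinrankEq (ZMod 2) (Additive V) hn.symm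
  let lin : MulAut V →* GL (Fin n) (ZMod 2) :=
    (Units.mapEquiv (LinearMap.toMatrixAlgEquiv b).toMulEquiv).toMonoidHom.comp
      { toFun := fun τ => (LinearMap.GeneralLinearGroup.generalLinearEquiv (ZMod 2) (Additive V)).symm
          (LinearEquiv.ofBijective (AddMonoidHom.toZModLinearMap 2 (MonoidHom.toAdditive τ.toMonoidHom))
            τ.bijective)
        map_one' := Units.ext (LinearMap.ext fun w => rfl)
        map_mul' := fun τ τ' => Units.ext (LinearMap.ext fun w => rfl) }
  have hlin : Function.Injective lin := by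
    refine (Units.mapEquiv (LinearMap.toMatrixAlgEquiv b).toMulEquiv).injective.comp ?_
    intro τ τ' e
    ext x
    exact congrArg (fun u : (Module.End (ZMod 2) (Additive V))ˣ =>
      ((Additive.toMul (u.1 (Additive.ofMul x)) : V) : X ⧸ F)) e
  have hvec : ∀ (τ : MulAut V) (v : V),
      b.equivFun (Additive.ofMul (τ v)) = ((lin τ : GL (Fin n) (ZMod 2)) : Matrix (Fin n) (Fin n) (ZMod 2)).mulVec
        (b.equivFun (Additive.ofMul v)) := fun τ v =>
    (LinearMap.toMatrix_mulVec_repr b b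
      (AddMonoidHom.toZModLinearMap 2 (MonoidHom.toAdditive τ.toMonoidHom)) (Additive.ofMul v)).symm
  set φ : X ⧸ F →* GL (Fin n) (ZMod 2) := lin.comp σ with hφ
  have hφker : φ.ker = V := by
    rw [hφ]
    refine Eq.trans ?_ hker
    ext y
    rw [MonoidHom.mem_ker, MonoidHom.mem_ker, MonoidHom.comp_apply, ← map_one lin, hlin.eq_iff]
  have hφr : Nat.card φ.range = Nat.card (X ⧸ Q) := by rw [← Subgroup.index_ker, hφker, hidx]
  have hn' : n = 4 := by
    by_contra hne
    have h1 := (Subgroup.card_le_card_group φ.range).trans (card_GL_small n (by omega))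
    omega
  have hvec' : ∀ (y : X ⧸ F) (v : V), b.equivFun (Additive.ofMul (MulAut.conjNormal y v)) =
      ((φ y : GL (Fin n) (ZMod 2)) : Matrix (Fin n) (Fin n) (ZMod 2)).mulVec (b.equivFun (Additive.ofMul v)) :=
    fun y v => hvec (σ y) v
  -- a conjugate of the six matrices
  obtain ⟨ι₁, φ₁, hk₁, hr₁, hc₁⟩ : ∃ (ι₁ : Additive V ≃+ (Fin 4 → ZMod 2)) (φ₁ : X ⧸ F →* GV), φ₁.ker = V ∧
      Nat.card φ₁.range = Nat.card (X ⧸ Q) ∧ ∀ (y : X ⧸ F) (v : V),
        ι₁ (Additive.ofMul (MulAut.conjNormal y v)) = ((φ₁ y : GV) : M4).mulVec (ι₁ (Additive.ofMul v)) := by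
    suffices key : ∀ (k : ℕ), k = 4 → ∀ (ι : Additive V ≃+ (Fin k → ZMod 2)) (f : X ⧸ F →* GL (Fin k) (ZMod 2)),
        f.ker = V → Nat.card f.range = Nat.card (X ⧸ Q) → (∀ (y : X ⧸ F) (v : V),
          ι (Additive.ofMul (MulAut.conjNormal y v)) = ((f y : GL (Fin k) (ZMod 2)) : Matrix (Fin k) (Fin k) (ZMod 2)).mulVec
            (ι (Additive.ofMul v))) →
        ∃ (ι₁ : Additive V ≃+ (Fin 4 → ZMod 2)) (φ₁ : X ⧸ F →* GV), φ₁.ker = V ∧
          Nat.card φ₁.range = Nat.card (X ⧸ Q) ∧ ∀ (y : X ⧸ F) (v : V),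
            ι₁ (Additive.ofMul (MulAut.conjNormal y v)) = ((φ₁ y : GV) : M4).mulVec (ι₁ (Additive.ofMul v)) from
      key n hn' b.equivFun.toAddEquiv φ hφker hφr hvec'
    rintro k rfl ι f h1 h2 h3
    exact ⟨ι, f, h1, h2, h3⟩
  obtain ⟨h, hh⟩ := exists_conj_table φ₁.range (by rw [hr₁]; exact hbig)
  let ψ : X ⧸ F →* GV := (MulAut.conj h⁻¹).toMonoidHom.comp φ₁
  let m : (Fin 4 → ZMod 2) ≃+ (Fin 4 → ZMod 2) :=
    { toFun := fun v => ((h⁻¹ : GV) : M4).mulVec v
      invFun := fun v => ((h : GV) : M4).mulVec v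
      left_inv := fun v => by
        show ((h : GV) : M4).mulVec (((h⁻¹ : GV) : M4).mulVec v) = v
        rw [Matrix.mulVec_mulVec, ← Units.val_mul, mul_inv_cancel, Units.val_one, Matrix.one_mulVec]
      right_inv := fun v => by
        show ((h⁻¹ : GV) : M4).mulVec (((h : GV) : M4).mulVec v) = v
        rw [Matrix.mulVec_mulVec, ← Units.val_mul, inv_mul_cancel, Units.val_one, Matrix.one_mulVec]
      map_add' := fun v w => Matrix.mulVec_add _ v w }
  have hψker : ψ.ker = V := by
    rw [← hk₁]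
    ext y
    show MulAut.conj h⁻¹ (φ₁ y) = 1 ↔ φ₁ y = 1
    rw [map_eq_one_iff _ (MulAut.conj h⁻¹).injective]
  have hψc : ∀ (y : X ⧸ F) (v : V), (ι₁.trans m) (Additive.ofMul (MulAut.conjNormal y v)) =
      ((ψ y : GV) : M4).mulVec ((ι₁.trans m) (Additive.ofMul v)) := by
    intro y v
    show ((h⁻¹ : GV) : M4).mulVec (ι₁ _) = ((h⁻¹ * φ₁ y * h⁻¹⁻¹ : GV) : M4).mulVec (((h⁻¹ : GV) : M4).mulVec (ι₁ _))
    rw [hc₁, Matrix.mulVec_mulVec, Matrix.mulVec_mulVec, ← Units.val_mul, ← Units.val_mul, inv_inv,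
      mul_assoc (h⁻¹ * φ₁ y), mul_inv_cancel, mul_one]
  have hmem : ∀ q ∈ table, q.1 ∈ ψ.range := by
    intro q hq
    obtain ⟨y, hy⟩ := hh q hq
    exact ⟨y, by show h⁻¹ * φ₁ y * h⁻¹⁻¹ = q.1; rw [hy]; group⟩
  have ht : ∀ i (hi : i < table.length), (table[i]'hi).1 ∈ ψ.range := fun i hi => hmem _ (List.getElem_mem hi)
  exact not_sectional π hπ (ι₁.trans m) ψ hψker hψc (ht 0 (by decide)) (ht 1 (by decide))
    (ht 2 (by decide)) (ht 3 (by decide)) (ht 4 (by decide)) (ht 5 (by decide)) hr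

/-- Over the field with two elements `GL₃` is `PSL₃`. -/
noncomputable def glPSL : GL (Fin 3) (ZMod 2) ≃* Matrix.ProjectiveSpecialLinearGroup (Fin 3) (ZMod 2) := by
  haveI : Fact (Nat.Prime 2) := ⟨Nat.prime_two⟩
  have hu : ∀ x : ZMod 2, x ≠ 0 → x = 1 := GL4A8.units_two
  let toSL : GL (Fin 3) (ZMod 2) →* Matrix.SpecialLinearGroup (Fin 3) (ZMod 2) :=
    { toFun := fun g => ⟨g.val, hu _ (Matrix.GeneralLinearGroup.det g).ne_zero⟩
      map_one' := Subtype.ext rfl
      map_mul' := fun _ _ => Subtype.ext rfl }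
  have hc : Subgroup.center (Matrix.SpecialLinearGroup (Fin 3) (ZMod 2)) = ⊥ := by
    refine eq_bot_iff.mpr fun A hA => ?_
    obtain ⟨r, hr, hA⟩ := Matrix.SpecialLinearGroup.mem_center_iff.mp hA
    have h1 : r = 1 := hu r (fun h0 => by simp [h0] at hr)
    exact Subgroup.mem_bot.mpr (Subtype.ext (by rw [← hA, h1]; simp))
  refine MulEquiv.ofBijective ((QuotientGroup.mk' _).comp toSL) ⟨?_, ?_⟩
  · intro g g' e
    have e' := QuotientGroup.eq.mp e
    rw [hc, Subgroup.mem_bot, inv_mul_eq_one] at e'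
    exact Units.ext (congrArg Subtype.val e' :)
  · intro x
    obtain ⟨A, rfl⟩ := QuotientGroup.mk'_surjective _ x
    exact ⟨Matrix.SpecialLinearGroup.toGL A, congrArg _ (Subtype.ext rfl)⟩

end CfsgLib.SectFour
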