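/-
The radical of a two-constrained group of sectional 2-rank four with an alternating section of degree five.
-/
import Cfsg.Agent.Lib.SectFour.Main
import Cfsg.Agent.Lib.SectFour.Layer
import Cfsg.Agent.Lib.RankFrattini
import Cfsg.Agent.Lib.PGroup.Uniserial
import Cfsg.Agent.Lib.QuatHom
import Cfsg.Agent.Lib.TausskyTwo

set_option autoImplicit false
set_option linter.style.haveILetI false
set_option maxRecDepth 8000

namespace CfsgLib.SectFour

open Cfsg
open scoped commutatorElement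

variable {X : Type*} [Group X] [Finite X]

/-- The Frattini subgroup of the radical. -/
def fr (X : Type*) [Group X] : Subgroup X := (frattini (pCore 2 X)).map (pCore 2 X).subtype

theorem fr_normal : (fr X).Normal := by
  haveI : (frattini (pCore 2 X)).Characteristic := frattini_characteristic
  exact ConjAct.normal_of_characteristic_of_normal

theorem fr_le : fr X ≤ pCore 2 X := Subgroup.map_subtype_le _

theorem sq_mem_fr {q : X} (hq : q ∈ pCore 2 X) : q ^ 2 ∈ fr X := by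
  haveI : Fact (Nat.Prime 2) := ⟨Nat.prime_two⟩
  exact ⟨_, CfsgLib.pow_mem_frattini_pGroup (CfsgLib.isPGroup_pCore 2) ⟨q, hq⟩, rfl⟩

theorem fr_le_squares : fr X ≤ Subgroup.closure {g | ∃ q ∈ pCore 2 X, g = q ^ 2} := by
  haveI : Fact (Nat.Prime 2) := ⟨Nat.prime_two⟩
  have hsqmem : ∀ r : pCore 2 X, r ^ 2 ∈ Subgroup.closure {g : pCore 2 X | ∃ q : pCore 2 X, g = q ^ 2} :=
    fun r => Subgroup.subset_closure ⟨r, rfl⟩
  refine (Subgroup.map_mono (RankFrattini.frattini_le_of_elementary (CfsgLib.isPGroup_pCore 2)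
    (Subgroup.closure {g : pCore 2 X | ∃ q : pCore 2 X, g = q ^ 2}) ?_ hsqmem)).trans ?_
  · intro a b
    rw [commutator_sq]
    exact mul_mem (mul_mem (hsqmem _) (hsqmem _)) (hsqmem _)
  · rw [MonoidHom.map_closure]
    refine Subgroup.closure_mono ?_
    rintro g ⟨r, ⟨s, rfl⟩, rfl⟩
    exact ⟨(s : X), s.2, rfl⟩

/-- An element acting trivially on the Frattini quotient of the radical lies in the radical. -/
theorem trivial_mem (hc : IsPConstrained 2 X) (hO : oddCore X = ⊥) {x₀ : X}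
    (hx₀ : ∀ q ∈ pCore 2 X, x₀ * q * x₀⁻¹ * q⁻¹ ∈ fr X) : x₀ ∈ pCore 2 X := by
  classical
  haveI : Fact (Nat.Prime 2) := ⟨Nat.prime_two⟩
  set Q := pCore 2 X with hQdef
  have hQ : IsPGroup 2 Q := CfsgLib.isPGroup_pCore 2
  set F : Subgroup X := fr X with hF
  haveI : F.Normal := fr_normal
  let π : X →* X ⧸ F := QuotientGroup.mk' F
  set V : Subgroup (X ⧸ F) := Q.map π with hVdef
  haveI : V.Normal := Subgroup.Normal.map inferInstance _ (QuotientGroup.mk'_surjective F)
  let σ : X ⧸ F →* MulAut V := MulAut.conjNormal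
  have hle : σ.ker.comap π ≤ Q := by
    refine CfsgLib.le_pCore fun ⟨x, hx⟩ => ?_
    obtain ⟨k, m, hm, he⟩ := Nat.exists_eq_pow_mul_and_not_dvd (orderOf_pos x).ne' 2 (by norm_num)
    refine ⟨k, Subtype.ext ?_⟩
    set y := x ^ (2 ^ k) with hy
    show y = 1
    have hyo : orderOf y = m := by
      rw [hy, orderOf_pow, he, Nat.gcd_eq_right (dvd_mul_right _ _), Nat.mul_div_cancel_left _ (by positivity)]
    have hcop : m.Coprime 2 := (Nat.Prime.coprime_iff_not_dvd Nat.prime_two).mpr hm |>.symm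
    have hyk : y ∈ σ.ker.comap π := pow_mem hx _
    have hcen : y ∈ Subgroup.centralizer (Q : Set X) := by
      refine CfsgLib.centralize_of_trivial_mod_frattini (A := Subgroup.zpowers y) ?_ ?_ ?_
        (Subgroup.mem_zpowers y)
      · rw [Subgroup.normalizer_eq_top]; exact le_top
      · rw [Nat.card_zpowers, hyo]
        obtain ⟨j, hj⟩ := IsPGroup.iff_card.mp (hQ.to_subgroup (frattini Q))
        rw [hj]
        exact hcop.pow_right j
      · intro a ha q hq
        have hak : a ∈ σ.ker.comap π := (Subgroup.zpowers_le.mpr hyk) ha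
        have h1 := congrArg Subtype.val (DFunLike.congr_fun (MonoidHom.mem_ker.mp hak) (⟨π q, q, hq, rfl⟩ : V))
        have h2 : π (a * q * a⁻¹ * q⁻¹) = 1 := by
          rw [map_mul, map_mul, map_mul, map_inv, map_inv, mul_inv_eq_one]
          exact (MulAut.conjNormal_apply ..).symm.trans h1
        obtain ⟨f, hf, e⟩ := (QuotientGroup.eq_one_iff _).mp h2
        exact ⟨f, hf, e⟩
    obtain ⟨j, hj⟩ := hQ ⟨y, RadicalQuotient.centralizer_le hc hO hcen⟩
    have hj' : y ^ 2 ^ j = 1 := congrArg Subtype.val hj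
    refine orderOf_eq_one_iff.mp ?_
    refine Nat.eq_one_of_dvd_coprimes (a := m) (hcop.pow_right j) ?_ (orderOf_dvd_of_pow_eq_one hj')
    rw [hyo]
  refine hle ?_
  rw [Subgroup.mem_comap, MonoidHom.mem_ker]
  refine MulEquiv.ext fun v => Subtype.ext ?_
  obtain ⟨q, hq, hqv⟩ := v.2
  show ((MulAut.conjNormal (H := V) (π x₀) v : V) : X ⧸ F) = v
  rw [MulAut.conjNormal_apply, ← hqv, ← map_inv, ← map_mul, ← map_mul]
  refine (QuotientGroup.eq.mpr ?_).symm
  have := (inferInstance : F.Normal).conj_mem _ (hx₀ q hq) q⁻¹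
  simpa [mul_assoc] using this

theorem relIndex_fr (hc : IsPConstrained 2 X) (hO : oddCore X = ⊥) (hr : SectionalPRankLE 2 4 X)
    (e : alternatingGroup (Fin 5) →* X ⧸ pCore 2 X) (he : Function.Injective e) :
    (fr X).relIndex (pCore 2 X) = 16 := by
  classical
  haveI : Fact (Nat.Prime 2) := ⟨Nat.prime_two⟩
  haveI : Fact (Nat.Prime 5) := ⟨Nat.prime_five⟩
  haveI : (fr X).Normal := fr_normal
  let π : X →* X ⧸ fr X := QuotientGroup.mk' (fr X)
  set V : Subgroup (X ⧸ fr X) := (pCore 2 X).map π with hVdef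
  haveI : V.Normal := Subgroup.Normal.map inferInstance _ (QuotientGroup.mk'_surjective _)
  have hVc : Nat.card V = (fr X).relIndex (pCore 2 X) := by
    rw [← Subgroup.relIndex_bot_left V, hVdef, ← Subgroup.relIndex_comap, MonoidHom.comap_bot,
      QuotientGroup.ker_mk']
  have hsq : ∀ v : V, v ^ 2 = 1 := by
    rintro ⟨v, x, hx, rfl⟩
    apply Subtype.ext
    show π x ^ 2 = 1
    rw [← map_pow]
    exact (QuotientGroup.eq_one_iff _).mpr (sq_mem_fr hx)
  have h16 : Nat.card V ≤ 16 :=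
    CentralPair.sect_bound (S := X) hr (pCore 2 X).subtype (Subgroup.subtype_injective _) (π.subgroupMap _)
      (MonoidHom.subgroupMap_surjective π _) (fun v => hsq v)
  obtain ⟨c, t, hc5, hc1, -, -⟩ := five_elements
  obtain ⟨y, hy⟩ := QuotientGroup.mk_surjective (e c)
  set τ : MulAut V := MulAut.conjNormal (π y) with hτ
  have hcomm : ∀ a b : V, a * b = b * a := by
    intro a b
    have hinv : ∀ u : V, u⁻¹ = u := fun u => inv_eq_of_mul_eq_one_right (by rw [← sq, hsq])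
    calc a * b = (a * b)⁻¹ := (hinv _).symm
      _ = b * a := by rw [_root_.mul_inv_rev, hinv, hinv]
  have hτ5 : τ ^ 5 = 1 := by
    have h5 : y ^ 5 ∈ pCore 2 X := by
      rw [← QuotientGroup.eq_one_iff, QuotientGroup.mk_pow, hy, ← map_pow, hc5, map_one]
    rw [hτ, ← map_pow, ← map_pow]
    refine MulEquiv.ext fun v => Subtype.ext ?_
    show ((MulAut.conjNormal (H := V) (π (y ^ 5)) v : V) : X ⧸ fr X) = v
    rw [MulAut.conjNormal_apply, show π (y ^ 5) * (v : X ⧸ fr X) = (v : X ⧸ fr X) * π (y ^ 5) from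
      congrArg Subtype.val (hcomm ⟨π (y ^ 5), _, h5, rfl⟩ v), mul_inv_cancel_right]
  have hτ1 : τ ≠ 1 := by
    intro h
    refine hc1 (he ?_)
    rw [map_one, ← hy, QuotientGroup.eq_one_iff]
    refine trivial_mem hc hO fun q hq => ?_
    have h1 := congrArg Subtype.val (DFunLike.congr_fun h (⟨π q, q, hq, rfl⟩ : V))
    rw [hτ, MulAut.conjNormal_apply] at h1
    refine (QuotientGroup.eq_one_iff (N := fr X) _).mp ?_
    show π (y * q * y⁻¹ * q⁻¹) = 1
    rw [map_mul, map_mul, map_mul, map_inv, map_inv, mul_inv_eq_one]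
    exact h1
  have hG : IsPGroup 5 (Subgroup.zpowers τ) := IsPGroup.of_card (n := 1) (by
    rw [Nat.card_zpowers, orderOf_eq_prime hτ5 hτ1, pow_one])
  have hmod := hG.card_modEq_card_fixedPoints V
  let C : Subgroup V := τ.toMonoidHom.eqLocus (MonoidHom.id V)
  have hfix : Nat.card (MulAction.fixedPoints (Subgroup.zpowers τ) V) = Nat.card C := by
    refine Nat.card_congr (Equiv.subtypeEquivRight fun v => ⟨fun h => h ⟨τ, Subgroup.mem_zpowers τ⟩, fun h g => ?_⟩)
    obtain ⟨g, hg⟩ := g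
    have hle : Subgroup.zpowers τ ≤ MulAction.stabilizer (MulAut V) v := Subgroup.zpowers_le.mpr h
    exact hle hg
  have hCne : C ≠ ⊤ := fun h => hτ1 (MulEquiv.ext fun v => (h.ge (Subgroup.mem_top v) : τ v = v))
  obtain ⟨k, hk⟩ := IsPGroup.iff_card.mp (show IsPGroup 2 V from fun v => ⟨1, by rw [pow_one]; exact hsq v⟩)
  obtain ⟨j, hj⟩ := IsPGroup.iff_card.mp (show IsPGroup 2 C from fun v => ⟨1, by
    rw [pow_one]; exact Subtype.ext (hsq v)⟩)
  have hlt : Nat.card C < Nat.card V := by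
    refine lt_of_le_of_ne (Subgroup.card_le_card_group C) fun h => hCne (Subgroup.eq_top_of_card_eq C h)
  rw [hfix, hk, hj] at hmod
  rw [hk, hj, Nat.pow_lt_pow_iff_right (by norm_num)] at hlt
  have hk4 : k ≤ 4 := by
    rw [hk] at h16
    exact (Nat.pow_le_pow_iff_right (by norm_num)).mp (h16.trans_eq (by norm_num : (16 : ℕ) = 2 ^ 4))
  rw [← hVc, hk]
  interval_cases k <;> interval_cases j <;> first
    | rfl
    | (exfalso; revert hmod; decide)

/-- The layer theorem below a quotient map with kernel inside the Frattini subgroup of the radical. -/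
theorem layer_mod (hc : IsPConstrained 2 X) (hO : oddCore X = ⊥) (hr : SectionalPRankLE 2 4 X)
    (e : alternatingGroup (Fin 5) →* X ⧸ pCore 2 X) (he : Function.Injective e)
    {Y : Type*} [Group Y] [Finite Y] (π : X →* Y) (hπ : Function.Surjective π) (hker : π.ker ≤ fr X)
    (hKc : ∀ f ∈ fr X, ∀ q ∈ pCore 2 X, π f * π q = π q * π f) (hK2 : ∀ f ∈ fr X, π f ^ 2 = 1) :
    Nat.card ((fr X).map π) ≤ 2 ∧ ((fr X).map π ≠ ⊥ → ∃ z₀ ∈ (fr X).map π, z₀ ≠ 1 ∧
      ∃ a ∈ (pCore 2 X).map π, ∃ b ∈ (pCore 2 X).map π, ∃ c ∈ (pCore 2 X).map π, ∃ d ∈ (pCore 2 X).map π,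
      a ^ 2 = z₀ ∧ b ^ 2 = z₀ ∧ (a * b) ^ 2 = z₀ ∧ c ^ 2 = 1 ∧ d ^ 2 = 1 ∧ (c * d) ^ 2 = z₀ ∧
      a * c = c * a ∧ a * d = d * a ∧ b * c = c * b ∧ b * d = d * b ∧
      (pCore 2 X).map π ≤ Subgroup.closure ({a, b, c, d} : Set Y) ∧
      (∀ r ∈ (pCore 2 X).map π, r ∉ (fr X).map π → ∃ w ∈ (pCore 2 X).map π, r * w ≠ w * r) ∧
      (∀ r ∈ (pCore 2 X).map π,
        r ^ 2 = z₀ ∨ ∃ w ∈ (pCore 2 X).map π, w ^ 2 = z₀ ∧ (r * w) ^ 2 = z₀)) := by
  haveI : (fr X).Normal := fr_normal
  haveI : ((pCore 2 X).map π).Normal := Subgroup.Normal.map inferInstance _ hπ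
  haveI : ((fr X).map π).Normal := Subgroup.Normal.map inferInstance _ hπ
  have hcomap : ((fr X).map π).comap π = fr X := by rw [Subgroup.comap_map_eq, sup_eq_left.mpr hker]
  let φ : X →* Y ⧸ (pCore 2 X).map π := (QuotientGroup.mk' _).comp π
  have hφ : φ.ker = pCore 2 X := by
    rw [← MonoidHom.comap_ker, QuotientGroup.ker_mk', Subgroup.comap_map_eq, sup_eq_left.mpr (hker.trans fr_le)]
  let lift := QuotientGroup.lift (pCore 2 X) φ hφ.ge
  have hlift : Function.Injective lift := by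
    rw [← MonoidHom.ker_eq_bot_iff, QuotientGroup.ker_lift, hφ, QuotientGroup.map_mk'_self]
  refine layer hr π hπ ((pCore 2 X).map π) ((fr X).map π) (Subgroup.map_mono fr_le) ?_ ?_ ?_ ?_ ?_ ?_
    (lift.comp e) (hlift.comp he)
  · rintro _ ⟨f, hf, rfl⟩ _ ⟨q, hq, rfl⟩
    exact hKc f hf q hq
  · rintro _ ⟨f, hf, rfl⟩
    exact hK2 f hf
  · rintro _ ⟨q, hq, rfl⟩
    exact ⟨q ^ 2, sq_mem_fr hq, map_pow π q 2⟩
  · refine (Subgroup.map_mono fr_le_squares).trans ?_
    rw [MonoidHom.map_closure]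
    refine Subgroup.closure_mono ?_
    rintro g ⟨_, ⟨q, hq, rfl⟩, rfl⟩
    exact ⟨π q, ⟨q, hq, rfl⟩, map_pow π q 2⟩
  · rw [← Subgroup.relIndex_comap, hcomap]
    exact relIndex_fr hc hO hr e he
  · intro y hy
    obtain ⟨x, rfl⟩ := hπ y
    refine ⟨x, trivial_mem hc hO fun q hq => ?_, rfl⟩
    rw [← hcomap, Subgroup.mem_comap, map_mul, map_mul, map_mul, map_inv, map_inv]
    exact hy _ ⟨q, hq, rfl⟩

/-- The subgroup `[H, O₂(X)]H²`. -/
def lower (H : Subgroup X) : Subgroup X := ⁅H, pCore 2 X⁆ ⊔ Subgroup.closure {g | ∃ f ∈ H, g = f ^ 2}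

theorem lower_normal (H : Subgroup X) [H.Normal] : (lower H).Normal := by
  haveI : (Subgroup.closure {g : X | ∃ f ∈ H, g = f ^ 2}).Normal := ⟨fun n hn g => by
    have h := Subgroup.mem_map_of_mem (MulAut.conj g).toMonoidHom hn
    rw [MonoidHom.map_closure] at h
    refine Subgroup.closure_mono ?_ h
    rintro _ ⟨_, ⟨f, hf, rfl⟩, rfl⟩
    exact ⟨g * f * g⁻¹, (inferInstance : H.Normal).conj_mem f hf g,
      by rw [conj_pow]; rfl⟩⟩
  unfold lower
  infer_instance

theorem lower_le (H : Subgroup X) [H.Normal] : lower H ≤ H :=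
  sup_le (Subgroup.commutator_le_left _ _)
    ((Subgroup.closure_le _).mpr (by rintro _ ⟨f, hf, rfl⟩; exact pow_mem hf 2))

theorem lower_lt {H : Subgroup X} [H.Normal] (hH : H ≤ pCore 2 X) (hne : H ≠ ⊥) : lower H < H := by
  haveI : Fact (Nat.Prime 2) := ⟨Nat.prime_two⟩
  have hQ : IsPGroup 2 (pCore 2 X) := CfsgLib.isPGroup_pCore 2
  have hH2 : IsPGroup 2 H := hQ.to_le hH
  refine lt_of_le_of_ne (lower_le H) fun heq => ?_
  have hlt : ⁅H, pCore 2 X⁆ < H := by
    refine Uniserial.commutator_lt (p := 2) hQ hH2 ?_ hne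
    rw [Subgroup.normalizer_eq_top]; exact le_top
  refine hlt.not_ge ?_
  have h1 : H ≤ ⁅H, pCore 2 X⁆ ⊔ (frattini H).map H.subtype := by
    conv_lhs => rw [← heq]
    refine sup_le_sup_left ((Subgroup.closure_le _).mpr ?_) _
    rintro _ ⟨f, hf, rfl⟩
    exact ⟨_, CfsgLib.pow_mem_frattini_pGroup hH2 ⟨f, hf⟩, rfl⟩
  have h2 : (⁅H, pCore 2 X⁆.subgroupOf H) ⊔ frattini H = ⊤ := by
    refine Subgroup.map_injective H.subtype_injective ?_
    rw [Subgroup.map_sup, Subgroup.subgroupOf_map_subtype, inf_eq_left.mpr hlt.le,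
      ← MonoidHom.range_eq_map, Subgroup.range_subtype]
    exact le_antisymm (sup_le hlt.le (Subgroup.map_subtype_le _)) h1
  exact Subgroup.subgroupOf_eq_top.mp (frattini_nongenerating h2)

theorem lower_central (H : Subgroup X) [(lower H).Normal] {f q : X} (hf : f ∈ H) (hq : q ∈ pCore 2 X) :
    (f : X ⧸ lower H) * (q : X ⧸ lower H) = (q : X ⧸ lower H) * (f : X ⧸ lower H) := by
  have h : ⁅f, q⁆ ∈ lower H := le_sup_left (a := ⁅H, pCore 2 X⁆) (Subgroup.commutator_mem_commutator hf hq)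
  have h' := (QuotientGroup.eq_one_iff _).mpr h
  rw [commutatorElement_def, QuotientGroup.mk_mul, QuotientGroup.mk_mul, QuotientGroup.mk_mul, QuotientGroup.mk_inv,
    QuotientGroup.mk_inv] at h'
  calc (f : X ⧸ lower H) * q = (f * q * (f : X ⧸ lower H)⁻¹ * (q : X ⧸ lower H)⁻¹) * ((q : X ⧸ lower H) * f) := by
        group
    _ = _ := by rw [h', one_mul]

theorem lower_sq (H : Subgroup X) [(lower H).Normal] {f : X} (hf : f ∈ H) : (f : X ⧸ lower H) ^ 2 = 1 := by
  rw [← QuotientGroup.mk_pow, QuotientGroup.eq_one_iff]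
  exact le_sup_right (a := ⁅H, pCore 2 X⁆) (Subgroup.subset_closure ⟨f, hf, rfl⟩)

theorem quat_sq {Y : Type*} [Group Y] {a b z k k' : Y} (ha : a ^ 2 = z) (hb : b ^ 2 = z * k) (hab : (a * b) ^ 2 = z * k')
    (hzb : z * b = b * z) (hka : k * a = a * k) (hk'a : k' * a = a * k') (hk2 : k ^ 2 = 1) (hk'2 : k' ^ 2 = 1)
    (hkk : k * k' = k' * k) (hzk : z * k = k * z) (hzk' : z * k' = k' * z) : z ^ 2 = 1 := by
  have hza : z * a = a * z := by rw [← ha, ← pow_succ, ← pow_succ']
  have h1 : b * a * b = a * k' := by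
    calc b * a * b = a⁻¹ * (a * b) ^ 2 := by rw [sq]; group
      _ = a⁻¹ * (a ^ 2 * k') := by rw [hab, ha]
      _ = a * k' := by rw [sq]; group
  obtain ⟨u, hu⟩ : ∃ u, u = k' * k⁻¹ * z⁻¹ := ⟨_, rfl⟩
  have hua : Commute a u := by
    rw [hu]
    exact (((show Commute k' a from hk'a).symm.mul_right (show Commute k a from hka).symm.inv_right).mul_right
      (show Commute z a from hza).symm.inv_right)
  have h2 : b * a * b⁻¹ = a * u := by
    calc b * a * b⁻¹ = (b * a * b) * (b ^ 2)⁻¹ := by rw [sq]; group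
      _ = _ := by rw [h1, hb, hu]; group
  have hu2 : u ^ 2 = (z ^ 2)⁻¹ := by
    rw [hu, Commute.mul_pow (((show Commute z k' from hzk').inv_left.mul_right
      (show Commute z k from hzk).inv_left.inv_right).symm),
      Commute.mul_pow ((show Commute k k' from hkk).symm.inv_right), hk'2, inv_pow, hk2, inv_pow]
    simp
  have h3 : z = z * (z ^ 2)⁻¹ := by
    calc z = b * z * b⁻¹ := by rw [← hzb, mul_inv_cancel_right]
      _ = (b * a * b⁻¹) ^ 2 := by rw [conj_pow, ha]
      _ = _ := by rw [h2, hua.mul_pow, ha, hu2]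
  exact inv_eq_one.mp (left_eq_mul.mp h3)

theorem radical (hc : IsPConstrained 2 X) (hO : oddCore X = ⊥) (hr : SectionalPRankLE 2 4 X)
    (e : alternatingGroup (Fin 5) →* X ⧸ pCore 2 X) (he : Function.Injective e) :
    (IsElementaryAbelian 2 (pCore 2 X) ∧ Nat.card (pCore 2 X) = 16) ∨
      (Nat.card (pCore 2 X) = 32 ∧ ∃ A B : Subgroup (pCore 2 X),
        Nonempty (A ≃* QuaternionGroup 2) ∧ Nonempty (B ≃* DihedralGroup 4) ∧ (∀ a ∈ A, ∀ b ∈ B, a * b = b * a) ∧
          A ⊔ B = ⊤ ∧ A ⊓ B = Subgroup.center (pCore 2 X)) := by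
  classical
  haveI : Fact (Nat.Prime 2) := ⟨Nat.prime_two⟩
  haveI : (fr X).Normal := fr_normal
  have h16 := relIndex_fr hc hO hr e he
  by_cases hF : fr X = ⊥
  · refine Or.inl ?_
    have hsq : ∀ q ∈ pCore 2 X, q ^ 2 = 1 := fun q hq => by
      have := sq_mem_fr hq
      rwa [hF, Subgroup.mem_bot] at this
    refine ⟨⟨⟨⟨fun a b => Subtype.ext ?_⟩⟩, hsq⟩, ?_⟩
    · have hinv : ∀ c ∈ pCore 2 X, c⁻¹ = c := fun c hc => inv_eq_of_mul_eq_one_right (by rw [← sq, hsq c hc])
      show (a : X) * b = b * a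
      calc (a : X) * b = ((a : X) * b)⁻¹ := (hinv _ (mul_mem a.2 b.2)).symm
        _ = b * a := by rw [_root_.mul_inv_rev, hinv _ a.2, hinv _ b.2]
    · rwa [hF, Subgroup.relIndex_bot_left] at h16
  refine Or.inr ?_
  set K := lower (fr X) with hKdef
  haveI hKn : K.Normal := lower_normal _
  have hKlt : K < fr X := lower_lt fr_le hF
  haveI : (lower K).Normal := lower_normal _
  obtain ⟨hcard, hframe⟩ := layer_mod hc hO hr e he (QuotientGroup.mk' K) (QuotientGroup.mk'_surjective K)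
    (by rw [QuotientGroup.ker_mk']; exact hKlt.le) (fun f hf q hq => lower_central (fr X) hf hq)
    (fun f hf => lower_sq (fr X) hf)
  have hZne : (fr X).map (QuotientGroup.mk' K) ≠ ⊥ := by
    rw [Ne, Subgroup.map_eq_bot_iff, QuotientGroup.ker_mk']
    exact hKlt.not_ge
  obtain ⟨z₀, hz₀, hz1, a₁, hA₁, b₁, hB₁, -, -, -, -, haz, hbz, habz, -, -, -, -, -, -, -, -, -, htwo⟩ := hframe hZne
  -- the second layer is trivial
  have hK : K = ⊥ := by
    by_contra hKne
    set L := lower K with hLdef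
    have hLlt : L < K := lower_lt (hKlt.le.trans fr_le) hKne
    obtain ⟨a, haQ, rfl⟩ := hA₁
    obtain ⟨b, hbQ, rfl⟩ := hB₁
    obtain ⟨z, hzdef⟩ : ∃ z, z = (a : X ⧸ L) ^ 2 := ⟨_, rfl⟩
    have hkc : ∀ k ∈ K, ∀ q ∈ pCore 2 X, (k : X ⧸ L) * q = (q : X ⧸ L) * k := fun k hk q hq => lower_central K hk hq
    -- squares in the class of `z`
    have hcos : ∀ r ∈ pCore 2 X, (r : X ⧸ K) ^ 2 = z₀ → ∃ k ∈ K, (r : X ⧸ L) ^ 2 = z * k := by
      intro r hr h
      refine ⟨(a ^ 2)⁻¹ * r ^ 2, ?_, ?_⟩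
      · refine (QuotientGroup.eq_one_iff (N := K) _).mp ?_
        rw [QuotientGroup.mk_mul, QuotientGroup.mk_inv, QuotientGroup.mk_pow, QuotientGroup.mk_pow, h, ← haz]
        exact inv_mul_cancel _
      · rw [hzdef, QuotientGroup.mk_mul, QuotientGroup.mk_inv, QuotientGroup.mk_pow, QuotientGroup.mk_pow,
          mul_inv_cancel_left]
    have hzr : ∀ r ∈ pCore 2 X, (r : X ⧸ K) ^ 2 = z₀ → z * (r : X ⧸ L) = (r : X ⧸ L) * z := by
      intro r hr h
      obtain ⟨k, hk, hk'⟩ := hcos r hr h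
      have h1 : (r : X ⧸ L) ^ 2 * r = r * (r : X ⧸ L) ^ 2 := by rw [← pow_succ, ← pow_succ']
      rw [hk', mul_assoc, hkc k hk r hr, ← mul_assoc, ← mul_assoc] at h1
      exact mul_right_cancel h1
    have hzc : ∀ r ∈ pCore 2 X, z * (r : X ⧸ L) = (r : X ⧸ L) * z := by
      intro r hr
      rcases htwo (r : X ⧸ K) ⟨r, hr, rfl⟩ with h | ⟨w, ⟨w, hw, rfl⟩, h1, h2⟩
      · exact hzr r hr h
      · have e1 := hzr w hw h1
        have e2 := hzr (r * w) (mul_mem hr hw) (by rw [QuotientGroup.mk_mul]; exact h2)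
        rw [QuotientGroup.mk_mul, ← mul_assoc] at e2
        have e3 : (r : X ⧸ L) * w * z = r * z * w := by rw [mul_assoc, ← e1, ← mul_assoc]
        rw [e3] at e2
        exact mul_right_cancel e2
    obtain ⟨k, hk, hkb⟩ := hcos b hbQ hbz
    obtain ⟨k', hk', hkab⟩ := hcos (a * b) (mul_mem haQ hbQ) (by rw [QuotientGroup.mk_mul]; exact habz)
    rw [QuotientGroup.mk_mul] at hkab
    have hkQ : ∀ k ∈ K, k ∈ pCore 2 X := fun k hk => fr_le (hKlt.le hk)
    have hz2 : z ^ 2 = 1 := quat_sq hzdef.symm hkb hkab (hzc b hbQ) (hkc k hk a haQ) (hkc k' hk' a haQ)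
      (lower_sq K hk) (lower_sq K hk') (hkc k hk k' (hkQ k' hk')) (hzc k (hkQ k hk)) (hzc k' (hkQ k' hk'))
    -- the elements of the first layer
    have hfr : ∀ f ∈ fr X, ∃ k ∈ K, (f : X ⧸ L) = k ∨ (f : X ⧸ L) = z * k := by
      intro f hf
      have hcl : ∀ v ∈ (fr X).map (QuotientGroup.mk' K), v = 1 ∨ v = z₀ := by
        intro v hv
        by_contra hv'
        rw [not_or] at hv'
        have : 3 ≤ Nat.card ((fr X).map (QuotientGroup.mk' K)) := by
          refine le_trans (le_of_eq (Nat.card_fin 3).symm) (Nat.card_le_card_of_injective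
            (![(⟨1, one_mem _⟩ : (fr X).map (QuotientGroup.mk' K)), ⟨v, hv⟩, ⟨z₀, hz₀⟩]) ?_)
          intro i j e
          fin_cases i <;> fin_cases j <;> first
            | rfl
            | (exfalso; revert e
               simp [Subtype.ext_iff, hv'.1, hv'.2, hz1, Ne.symm hv'.1, Ne.symm hv'.2, Ne.symm hz1])
        omega
      rcases hcl _ ⟨f, hf, rfl⟩ with h | h
      · exact ⟨f, (QuotientGroup.eq_one_iff f).mp h, Or.inl rfl⟩
      · refine ⟨(a ^ 2)⁻¹ * f, ?_, Or.inr ?_⟩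
        · refine (QuotientGroup.eq_one_iff (N := K) _).mp ?_
          rw [QuotientGroup.mk_mul, QuotientGroup.mk_inv, QuotientGroup.mk_pow]
          show ((a : X ⧸ K) ^ 2)⁻¹ * QuotientGroup.mk' K f = 1
          rw [h, ← haz]
          exact inv_mul_cancel _
        · rw [hzdef, QuotientGroup.mk_mul, QuotientGroup.mk_inv, QuotientGroup.mk_pow, mul_inv_cancel_left]
    obtain ⟨hcard', -⟩ := layer_mod hc hO hr e he (QuotientGroup.mk' L) (QuotientGroup.mk'_surjective L)
      (by rw [QuotientGroup.ker_mk']; exact hLlt.le.trans hKlt.le)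
      (fun f hf q hq => by
        obtain ⟨k, hk, h | h⟩ := hfr f hf
        · show (f : X ⧸ L) * q = q * f
          rw [h, hkc k hk q hq]
        · show (f : X ⧸ L) * q = q * f
          rw [h, mul_assoc, hkc k hk q hq, ← mul_assoc, hzc q hq, mul_assoc])
      (fun f hf => by
        obtain ⟨k, hk, h | h⟩ := hfr f hf
        · show (f : X ⧸ L) ^ 2 = 1
          rw [h]; exact lower_sq K hk
        · show (f : X ⧸ L) ^ 2 = 1
          rw [h, Commute.mul_pow (hzc k (hkQ k hk)), hz2, lower_sq K hk, one_mul])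
    rw [← Subgroup.relIndex_bot_left ((fr X).map (QuotientGroup.mk' L)), ← Subgroup.relIndex_comap,
      MonoidHom.comap_bot, QuotientGroup.ker_mk', ← Subgroup.relIndex_mul_relIndex L K (fr X) hLlt.le hKlt.le] at hcard'
    have hg1 : 1 < L.relIndex K := by
      rcases Nat.lt_trichotomy (L.relIndex K) 1 with h | h | h
      · exact absurd (Nat.lt_one_iff.mp h) Subgroup.index_ne_zero_of_finite
      · exact absurd (Subgroup.relIndex_eq_one.1 h) hLlt.not_ge
      · exact h
    have hg2 : 1 < K.relIndex (fr X) := by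
      rcases Nat.lt_trichotomy (K.relIndex (fr X)) 1 with h | h | h
      · exact absurd (Nat.lt_one_iff.mp h) Subgroup.index_ne_zero_of_finite
      · exact absurd (Subgroup.relIndex_eq_one.1 h) hKlt.not_ge
      · exact h
    nlinarith
  -- the radical
  obtain ⟨hcard0, hframe0⟩ := layer_mod hc hO hr e he (MonoidHom.id X) Function.surjective_id
    (by rw [show (MonoidHom.id X).ker = ⊥ from MonoidHom.ker_id]; exact bot_le)
    (fun f hf q hq => by
      have h : ⁅f, q⁆ ∈ K := le_sup_left (a := ⁅fr X, pCore 2 X⁆) (Subgroup.commutator_mem_commutator hf hq)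
      rw [hK, Subgroup.mem_bot, commutatorElement_eq_one_iff_mul_comm] at h
      exact h)
    (fun f hf => by
      have h : f ^ 2 ∈ K := le_sup_right (a := ⁅fr X, pCore 2 X⁆) (Subgroup.subset_closure ⟨f, hf, rfl⟩)
      rwa [hK, Subgroup.mem_bot] at h)
  simp only [Subgroup.map_id] at hcard0 hframe0
  clear hz1 hz₀ haz hbz habz htwo z₀
  obtain ⟨z, hz, hz1, a, ha, b, hb, c, hc', d, hd, ha2, hb2, hab2, hc2, hd2, hcd2, hac, had, hbc, hbd, hgen, hnd, -⟩ :=
    hframe0 hF
  have hFc : Nat.card (fr X) = 2 := by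
    refine le_antisymm hcard0 ?_
    rw [Nat.succ_le_iff, Subgroup.one_lt_card_iff_ne_bot]
    exact hF
  have hQc : Nat.card (pCore 2 X) = 32 := by
    rw [← Subgroup.relIndex_bot_left, ← Subgroup.relIndex_mul_relIndex ⊥ (fr X) (pCore 2 X) bot_le fr_le,
      Subgroup.relIndex_bot_left, hFc, h16]
  have hFmem : ∀ f ∈ fr X, f = 1 ∨ f = z := by
    intro f hf
    obtain ⟨u, v, huv, huniv⟩ := Nat.card_eq_two_iff.mp hFc
    have h1 : ∀ w : fr X, w = u ∨ w = v := fun w => by
      have := huniv.ge (Set.mem_univ w)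
      simpa using this
    rcases h1 ⟨f, hf⟩ with h | h <;> rcases h1 1 with h' | h' <;> rcases h1 ⟨z, hz⟩ with h'' | h''
    all_goals first
      | exact Or.inl (congrArg Subtype.val (h.trans h'.symm))
      | exact Or.inr (congrArg Subtype.val (h.trans h''.symm))
      | exact absurd (congrArg Subtype.val (h''.trans h'.symm)) hz1
  have hzc : ∀ q ∈ pCore 2 X, z * q = q * z := fun q hq => by
    have h : ⁅z, q⁆ ∈ K := le_sup_left (a := ⁅fr X, pCore 2 X⁆) (Subgroup.commutator_mem_commutator hz hq)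
    rwa [hK, Subgroup.mem_bot, commutatorElement_eq_one_iff_mul_comm] at h
  have hz2 : z ^ 2 = 1 := by
    have h : z ^ 2 ∈ K := le_sup_right (a := ⁅fr X, pCore 2 X⁆) (Subgroup.subset_closure ⟨z, hz, rfl⟩)
    rwa [hK, Subgroup.mem_bot] at h
  -- into the radical
  set a' : pCore 2 X := ⟨a, ha⟩ with ha'
  set b' : pCore 2 X := ⟨b, hb⟩ with hb'
  set c' : pCore 2 X := ⟨c, hc'⟩ with hc''
  set d' : pCore 2 X := ⟨d, hd⟩ with hd'
  set z' : pCore 2 X := ⟨z, fr_le hz⟩ with hz'
  have Ea : a' ^ 2 = z' := Subtype.ext ha2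
  have Eb : b' ^ 2 = z' := Subtype.ext hb2
  have Eab : (a' * b') ^ 2 = z' := Subtype.ext hab2
  have Ec : c' ^ 2 = 1 := Subtype.ext hc2
  have Ed : d' ^ 2 = 1 := Subtype.ext hd2
  have Ecd : (c' * d') ^ 2 = z' := Subtype.ext hcd2
  have Ez1 : z' ≠ 1 := fun h => hz1 (congrArg Subtype.val h)
  have Ez2 : z' ^ 2 = 1 := Subtype.ext hz2
  clear_value a' b' c' d' z'
  have horder : ∀ g : pCore 2 X, g ^ 2 = z' → orderOf g = 4 := by
    intro g hg
    refine orderOf_eq_prime_pow (p := 2) (n := 1) ?_ ?_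
    · rw [pow_one, hg]; exact Ez1
    · rw [show 2 ^ (1 + 1) = 2 * 2 from rfl, pow_mul, hg, Ez2]
  have hzinv : z'⁻¹ = z' := inv_eq_of_mul_eq_one_right (by rw [← sq, Ez2])
  have hainv : a'⁻¹ = a' * z' := by
    refine inv_eq_of_mul_eq_one_right ?_
    rw [← mul_assoc, ← sq, Ea, ← sq, Ez2]
  have hba : b' * a' * b'⁻¹ = a'⁻¹ := by
    have h1 : b' * a' * b' = a' := by
      calc b' * a' * b' = a'⁻¹ * (a' * b') ^ 2 := by rw [sq]; group
        _ = a'⁻¹ * a' ^ 2 := by rw [Eab, Ea]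
        _ = a' := by rw [sq]; group
    calc b' * a' * b'⁻¹ = (b' * a' * b') * (b' ^ 2)⁻¹ := by rw [sq]; group
      _ = _ := by rw [h1, Eb, hzinv, hainv]
  have hcinv : c'⁻¹ = c' := inv_eq_of_mul_eq_one_right (by rw [← sq, Ec])
  have hdinv : d'⁻¹ = d' := inv_eq_of_mul_eq_one_right (by rw [← sq, Ed])
  have hcu : c' * (c' * d') * c'⁻¹ = (c' * d')⁻¹ := by
    rw [_root_.mul_inv_rev, hdinv, hcinv, ← mul_assoc, ← sq c', Ec, one_mul]
  obtain ⟨A, hA⟩ : ∃ A : Subgroup (pCore 2 X), A = Subgroup.closure {a', b'} := ⟨_, rfl⟩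
  obtain ⟨B, hB⟩ : ∃ B : Subgroup (pCore 2 X), B = Subgroup.closure {c', d'} := ⟨_, rfl⟩
  have hAQ : Nonempty (A ≃* QuaternionGroup 2) := by
    rw [hA]
    refine Quat.nonempty_equiv ?_ ?_ hba ?_ ?_
    · rw [show 2 * 2 = 2 * 2 from rfl, pow_mul, Ea, Ez2]
    · rw [← sq, Eb, Ea]
    · exact horder a' Ea
    · rintro ⟨i, hi⟩
      have hi' : a' ^ i = b' := hi
      have hcomm : b' * a' = a' * b' := by rw [← hi']; exact ((Commute.refl a').zpow_left i).eq
      rw [hcomm, mul_inv_cancel_right] at hba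
      refine Ez1 ?_
      rw [← Ea, sq]
      nth_rw 2 [hba]
      exact mul_inv_cancel a'
  have hcB : c' ∈ B := hB ▸ Subgroup.subset_closure (Or.inl rfl)
  have hdB : d' ∈ B := hB ▸ Subgroup.subset_closure (Or.inr rfl)
  have hBD : Nonempty (B ≃* DihedralGroup 4) := by
    set u : B := ⟨c' * d', mul_mem hcB hdB⟩ with hu
    set x : B := ⟨c', hcB⟩ with hx
    have hconj : x * u * x⁻¹ = u⁻¹ := Subtype.ext hcu
    have huo : orderOf u = 4 := by
      rw [← Subgroup.orderOf_coe]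
      exact horder _ Ecd
    have hxn : x ∉ Subgroup.zpowers u := by
      rintro ⟨i, hi⟩
      have hi' : u ^ i = x := hi
      have hcomm : x * u = u * x := by rw [← hi']; exact ((Commute.refl u).zpow_left i).eq
      rw [hcomm, mul_inv_cancel_right] at hconj
      refine Ez1 ?_
      have h1 : u * u = 1 := by nth_rw 2 [hconj]; exact mul_inv_cancel u
      have h2 := congrArg Subtype.val h1
      rw [Subgroup.coe_mul, ← sq] at h2
      exact Ecd.symm.trans h2
    refine TausskyTwo.dihedral_iso (by norm_num) u x huo (Subtype.ext Ec) hconj hxn ?_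
    have hxinv : x⁻¹ = x := inv_eq_of_mul_eq_one_right (Subtype.ext (by
      show c' * c' = 1
      rw [← sq, Ec]))
    have hnorm : ∀ g ∈ Subgroup.zpowers u, x * g * x ∈ Subgroup.zpowers u := by
      rintro g ⟨i, rfl⟩
      refine ⟨-i, ?_⟩
      show u ^ (-i) = x * u ^ i * x
      nth_rw 2 [← hxinv]
      rw [← conj_zpow, hconj, inv_zpow']
    intro g
    obtain ⟨g, hg⟩ := g
    rw [hxinv]
    have key : ∀ v (hv : v ∈ B), (⟨v, hv⟩ : B) ∈ Subgroup.zpowers u ∨ x * ⟨v, hv⟩ ∈ Subgroup.zpowers u := by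
      intro v hv
      have hv' : v ∈ Subgroup.closure {c', d'} := hB ▸ hv
      revert hv
      refine Subgroup.closure_induction (p := fun v _ => ∀ hv : v ∈ B,
        (⟨v, hv⟩ : B) ∈ Subgroup.zpowers u ∨ x * ⟨v, hv⟩ ∈ Subgroup.zpowers u) ?_ ?_ ?_ ?_ hv'
      · rintro v (rfl | rfl) hv
        · refine Or.inr ?_
          rw [show x * ⟨v, hv⟩ = (1 : B) from Subtype.ext (by show v * v = 1; rw [← sq, Ec])]
          exact one_mem _
        · exact Or.inr (Subgroup.mem_zpowers u)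
      · exact fun hv => Or.inl (one_mem _)
      · intro v w hv hw hv1 hw1 hvw
        have hvB : v ∈ B := hB ▸ hv
        have hwB : w ∈ B := hB ▸ hw
        rw [show (⟨v * w, hvw⟩ : B) = ⟨v, hvB⟩ * ⟨w, hwB⟩ from rfl]
        have hxx : x * x = 1 := by nth_rw 1 [← hxinv]; exact inv_mul_cancel x
        generalize (⟨v, hvB⟩ : B) = p, hpdef : (hv1 hvB) = hp at *
        rcases hp with hp | hp <;> rcases hw1 hwB with hq | hq
        · exact Or.inl (mul_mem hp hq)
        · refine Or.inr ?_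
          rw [show x * (p * (⟨w, hwB⟩ : B)) = (x * p * x) * ((x * x)⁻¹ * (x * ⟨w, hwB⟩)) by group, hxx, inv_one, one_mul]
          exact mul_mem (hnorm _ hp) hq
        · refine Or.inr ?_
          rw [← mul_assoc]
          exact mul_mem hp hq
        · refine Or.inl ?_
          rw [show p * (⟨w, hwB⟩ : B) = (x * x)⁻¹ * ((x * (x * p) * x) * ((x * x)⁻¹ * (x * ⟨w, hwB⟩))) by group, hxx,
            inv_one, one_mul, one_mul]
          exact mul_mem (hnorm _ hp) hq
      · intro v hv hv1 hvi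
        have hvB : v ∈ B := hB ▸ hv
        rw [show (⟨v⁻¹, hvi⟩ : B) = (⟨v, hvB⟩ : B)⁻¹ from rfl]
        rcases hv1 hvB with hp | hp
        · exact Or.inl (inv_mem hp)
        · refine Or.inr ?_
          have := hnorm _ (inv_mem hp)
          rwa [_root_.mul_inv_rev, hxinv, show x * ((⟨v, hvB⟩ : B)⁻¹ * x) * x = (x * (⟨v, hvB⟩ : B)⁻¹) * (x * x) by group,
            show x * x = 1 by nth_rw 1 [← hxinv]; exact inv_mul_cancel x, mul_one] at this
    exact key g hg
  have hcomm : ∀ p ∈ A, ∀ q ∈ B, p * q = q * p := by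
    intro p hp q hq
    rw [hA] at hp
    rw [hB] at hq
    have hAle : Subgroup.closure {a', b'} ≤ Subgroup.centralizer ({c', d'} : Set (pCore 2 X)) := by
      rw [Subgroup.closure_le]
      rintro g hg h hh
      rcases hg with rfl | rfl <;> rcases hh with rfl | rfl <;> refine Subtype.ext ?_ <;>
        simp only [Subgroup.coe_mul, ha', hb', hc'', hd', hac, had, hbc, hbd]
    have hBle : Subgroup.closure {c', d'} ≤ Subgroup.centralizer {p} := by
      rw [Subgroup.closure_le]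
      intro g hg
      exact Subgroup.mem_centralizer_singleton_iff.mpr (hAle hp g hg)
    exact (Subgroup.mem_centralizer_singleton_iff.mp (hBle hq)).symm
  have hsup : A ⊔ B = ⊤ := by
    rw [hA, hB, ← Subgroup.closure_union]
    refine Subgroup.map_injective (pCore 2 X).subtype_injective ?_
    rw [MonoidHom.map_closure, ← MonoidHom.range_eq_map, Subgroup.range_subtype]
    refine le_antisymm ?_ (hgen.trans (Subgroup.closure_mono ?_))
    · rw [Subgroup.closure_le]
      rintro _ ⟨g, -, rfl⟩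
      exact g.2
    · rintro g (rfl | rfl | rfl | rfl)
      · exact ⟨a', Or.inl (Or.inl rfl), by rw [ha']; rfl⟩
      · exact ⟨b', Or.inl (Or.inr rfl), by rw [hb']; rfl⟩
      · exact ⟨c', Or.inr (Or.inl rfl), by rw [hc'']; rfl⟩
      · exact ⟨d', Or.inr (Or.inr rfl), by rw [hd']; rfl⟩
  refine ⟨hQc, A, B, hAQ, hBD, hcomm, hsup, le_antisymm ?_ ?_⟩
  · rintro g ⟨hgA, hgB⟩
    rw [Subgroup.mem_center_iff]
    intro w
    have hle : A ⊔ B ≤ Subgroup.centralizer {g} := sup_le
      (fun p hp => Subgroup.mem_centralizer_singleton_iff.mpr (hcomm p hp g hgB))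
      (fun q hq => Subgroup.mem_centralizer_singleton_iff.mpr (hcomm g hgA q hq).symm)
    exact Subgroup.mem_centralizer_singleton_iff.mp (hle (hsup.ge (Subgroup.mem_top w)))
  · intro g hg
    have hgF : (g : X) ∈ fr X := by
      by_contra h
      obtain ⟨w, hw, hne⟩ := hnd g g.2 h
      exact hne (congrArg Subtype.val (Subgroup.mem_center_iff.mp hg ⟨w, hw⟩)).symm
    rcases hFmem _ hgF with h | h
    · rw [show g = 1 from Subtype.ext h]
      exact one_mem _
    · have hgz : g = z' := Subtype.ext (h.trans (by rw [hz']))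
      rw [hgz]
      have haA : a' ∈ A := hA ▸ Subgroup.subset_closure (Set.mem_insert _ _)
      exact ⟨Ea ▸ pow_mem haA 2, Ecd ▸ pow_mem (mul_mem hcB hdB) 2⟩

end CfsgLib.SectFour
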